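import Cfsg.Agent.TAB.F42.G.K0
import Cfsg.Agent.TAB.F42.G.K1
import Cfsg.Agent.TAB.F42.G.K2
import Cfsg.Agent.TAB.F42.G.K3
import Cfsg.Agent.TAB.F42.G.K4
import Cfsg.Agent.TAB.F42.G.K5

/-!
# The group side of the table of `F₄(2)` (helper47, TAB)
-/

set_option autoImplicit false

namespace Cfsg.Agent.TAB.F42.G

theorem good_all : ∀ t < 92, Good t := by
  intro t ht
  interval_cases t
  exacts [good_zero, g1, g2, g3, g4, g5, g6, g7, g8, g9, g10, g11, g12, g13, g14, g15, g16, g17, g18, g19, g20, g21, g22, g23, g24,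
    g25, g26, g27, g28, g29, g30, g31, g32, g33, g34, g35, g36, g37, g38, g39, g40, g41, g42, g43, g44, g45,
    g46, g47, g48, g49, g50, g51, g52, g53, g54, g55, g56, g57, g58, g59, g60, g61, g62, g63, g64, g65, g66,
    g67, g68, g69, g70, g71, g72, g73, g74, g75, g76, g77, g78, g79, g80, g81, g82, g83, g84, g85, g86, g87,
    g88, g89, g90, g91]

/-- **the types, their numbers and the counts** -/
theorem main : In := in_of good_all

end Cfsg.Agent.TAB.F42.G
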