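import Cfsg.Agent.TAB.F42.G.Main
import Cfsg.Agent.TAB.F42.Use

/-!
# The table of `F₄(2)`: the results without hypotheses (helper47, TAB)
-/

set_option autoImplicit false

namespace Cfsg.Agent.TAB.F42.G

open Cfsg Cfsg.Lie Cfsg.Agent.TAB.Use

variable (F : Type) [Field F] [Fintype F] (hF : Fintype.card F = 2)
include hF

theorem van : VAN.Van3 (chevF4.group F) := van_in main F hF

theorem odd : OddRat (chevF4.group F) := odd_in main F hF

theorem sig : OddSig (chevF4.group F) := sig_in main F hF

theorem deg : DegList (chevF4.group F) degL := deg_in main F hF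

end Cfsg.Agent.TAB.F42.G
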