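import Cfsg.Agent.TAB.F42.G.PX
import Cfsg.Agent.TAB.F42.G.PY
import Cfsg.Agent.TAB.F42.Dat
import Cfsg.Agent.TAB.F42.Span
import Cfsg.Agent.TAB.Co.Gen

/-!
# The types of `F₄(2)`: the key, the check of a representative, the assembly (helper47, TAB)
-/

set_option autoImplicit false
set_option maxRecDepth 100000
set_option maxHeartbeats 400000

namespace Cfsg.Agent.TAB.F42.G

open Cfsg Cfsg.Agent.FourTwo.Base Cfsg.Agent.TAB.Eng Cfsg.Agent.TAB.Co
open Cfsg.Agent.H123.Cls
open Cfsg.Agent.Lib.BitNetSimple (force force_eq)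
open Cfsg.Agent.Lib.BitNet (value)

/-! ### generalities -/

section

variable {G : Type} [Group G] [Finite G] {D : Dat} {val : ℕ → ℤ} {K : Key G ℤ}

theorem div_le_cls {z : G} {c : ℕ} (he : Nat.card (Subgroup.centralizer ({z} : Set G)) ≤ c) :
    Nat.card G / c ≤ Nat.card {g : G // IsConj z g} := by
  apply Nat.div_le_of_le_mul
  rw [← card_class z, mul_comm]
  exact Nat.mul_le_mul_right _ he

theorem le_one {x y : G} {c : ℕ} (hc : Nat.card (Subgroup.centralizer ({x} : Set G)) ≤ c) :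
    Nat.card G / c ≤ Nat.card {g : G // IsConj x g ∨ IsConj y g} := by
  refine (div_le_cls hc).trans (Nat.card_le_card_of_injective (fun g => ⟨g.1, Or.inl g.2⟩) fun a b hab => ?_)
  exact Subtype.ext (congrArg Subtype.val hab :)

theorem le_two {x : G} {c e f : ℕ} (hc : Nat.card (Subgroup.centralizer ({x} : Set G)) ≤ c)
    (hf : (x ^ e) ^ f = x) (hxy : ¬ IsConj x (x ^ e)) :
    2 * (Nat.card G / c) ≤ Nat.card {g : G // IsConj x g ∨ IsConj (x ^ e) g} := by
  have hd : Nat.card (Subgroup.centralizer ({x ^ e} : Set G)) ≤ c := by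
    refine (Subgroup.card_le_of_le fun g hg => ?_).trans hc
    rw [Subgroup.mem_centralizer_singleton_iff] at hg ⊢
    rw [← hf]
    exact (Commute.pow_right hg f).eq
  rw [two_mul]
  refine (Nat.add_le_add (div_le_cls hc) (div_le_cls hd)).trans ?_
  rw [← Nat.card_sum]
  refine Nat.card_le_card_of_injective (Sum.elim (fun g => ⟨g.1, Or.inl g.2⟩) (fun g => ⟨g.1, Or.inr g.2⟩)) ?_
  rintro (a | a) (b | b) hab
  · exact congrArg Sum.inl (Subtype.ext (congrArg Subtype.val hab :))
  · have h1 : a.1 = b.1 := congrArg Subtype.val hab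
    exact absurd (a.2.trans (h1 ▸ b.2.symm)) hxy
  · have h1 : a.1 = b.1 := congrArg Subtype.val hab
    exact absurd (b.2.trans (h1 ▸ a.2.symm)) hxy
  · exact congrArg Sum.inr (Subtype.ext (congrArg Subtype.val hab :))

/-- the types are one or two classes -/
theorem exists_cls (h1 : D.okPow = true) (h2 : D.okSep val = true) (h3 : D.okSum = true) (hN : Nat.card G = D.N)
    {V : ℕ → G → Prop} (hV : ∀ t x g, V t x → IsConj x g → V t g)
    (h : ∀ t < D.n, ∃ x y, Ty K D val t x ∧ Ty K D val t y ∧ D.cnt t ≤ Nat.card {g : G // IsConj x g ∨ IsConj y g} ∧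
      V t x ∧ V t y) : ∃ T : TD G D, T.Mass ∧ ∀ g, V (T.ty g) g := by
  have hinj : ∀ {t : ℕ} {x y : G} (hx : Ty K D val t x) (hy : Ty K D val t y), Function.Injective
      (fun g : {g : G // IsConj x g ∨ IsConj y g} =>
        (⟨g.1, g.2.elim hx.isConj hy.isConj⟩ : {g : G // Ty K D val t g})) :=
    fun hx hy a b hab => Subtype.ext (congrArg Subtype.val hab :)
  have hb : ∀ i < D.n, Box K D val i := fun i hi => by
    obtain ⟨x, y, h4, h5, h6, -⟩ := h i hi
    exact h6.trans (Nat.card_le_card_of_injective _ (hinj h4 h5))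
  obtain ⟨T, hm, hT⟩ := exists_td h1 h2 h3 hN hb
  refine ⟨T, hm, fun g => ?_⟩
  obtain ⟨x, y, h4, h5, h6, h7, h8⟩ := h _ (T.lt g)
  have h9 := (Nat.bijective_iff_injective_and_card _).2 ⟨hinj h4 h5,
    le_antisymm (Nat.card_le_card_of_injective _ (hinj h4 h5))
      (((cover_of_box h2 h3 hN hb).2 _ (T.lt g)).le.trans h6)⟩
  obtain ⟨a, ha⟩ := h9.2 ⟨g, (hT g _ (T.lt g)).1 rfl⟩
  have h10 : a.1 = g := congrArg Subtype.val ha
  exact a.2.elim (fun h11 => hV _ _ _ h7 (h10 ▸ h11)) fun h11 => hV _ _ _ h8 (h10 ▸ h11)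

theorem pow_odd {y : G} (h8 : y ^ 8 = 1) {k : ℕ} (hk : Nat.Coprime k (orderOf y)) :
    ∃ j ∈ [1, 3, 5, 7], y ^ k = y ^ j := by
  by_cases h1 : k % 2 = 1
  · refine ⟨k % 8, by simp only [List.mem_cons, List.not_mem_nil]; omega, ?_⟩
    conv_lhs => rw [← Nat.div_add_mod k 8, pow_add, pow_mul, h8, one_pow, one_mul]
  · have h2 : Nat.Coprime 8 (orderOf y) :=
      (Nat.Coprime.coprime_dvd_left (Nat.dvd_of_mod_eq_zero (by omega) : 2 ∣ k) hk).pow_left 3
    have h3 : orderOf y = 1 := Nat.Coprime.eq_one_of_dvd h2.symm (orderOf_dvd_of_pow_eq_one h8)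
    rw [orderOf_eq_one_iff.1 h3]
    exact ⟨1, by simp, by simp⟩

theorem pow_eight {y : G} {k : ℕ} (hk : Nat.Coprime k (orderOf y)) : (y ^ k) ^ 8 = 1 ↔ y ^ 8 = 1 := by
  rw [← orderOf_dvd_iff_pow_eq_one, ← orderOf_dvd_iff_pow_eq_one, hk.symm.orderOf_pow]

end

/-! ### the programs -/

/-- fixed points -/
def pF : List ℕ := [80, 24641]

/-- `B (g x, x) = 1` -/
def pN : List ℕ := [80, 8243]

theorem ps_pF (g : LL) (c : ℕ) : Ps g [] pF c ↔ L g c = c := by
  have e : (evS (L g) [] pF [c] true).2 = !(xc [L g c, c] 3 != 0) := by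
    simp [pF, evS, opS, tsS]
  have e2 : xc [L g c, c] 3 = L g c ^^^ c := by
    show L g c ^^^ (c ^^^ 0) = _
    rw [Nat.xor_zero]
  rw [Ps, e, e2]
  simp

theorem L_pow {g : LL} {c : ℕ} (hc : c < 2 ^ 26) (h : L g c = c) : ∀ k : ℕ, L (g ^ k) c = c
  | 0 => by rw [pow_zero, L_one hc]
  | k + 1 => by rw [pow_succ, L_mul, h, L_pow hc h k]

theorem cg_pow (pr : List ℕ) {g : LL} {k : ℕ} (hk : Nat.Coprime k (orderOf g)) : cg pr pF (g ^ k) = cg pr pF g := by
  have := finite_LL
  obtain ⟨m, hm⟩ := exists_pow_eq_self_of_coprime hk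
  refine Nat.card_congr (Equiv.subtypeEquivRight fun c => and_congr_right fun hc => ?_)
  rw [ps_pF, ps_pF]
  refine ⟨fun h => ?_, fun h => L_pow hc.1 h k⟩
  have := L_pow hc.1 h m
  rwa [hm] at this

theorem cg_isConj (pr prog : List ℕ) {g h : LL} (hc : IsConj g h) : cg pr prog h = cg pr prog g := by
  obtain ⟨c, rfl⟩ := isConj_iff.1 hc
  exact cg_conj pr prog g c

/-! ### the graph automorphism and the key -/

/-- the graph automorphism -/
noncomputable def gam : LL ≃* LL := exists_graph.choose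

theorem gam_wd (w : List ℕ) (h : ∀ r ∈ w, r < 48) : gam (wd w) = wd (w.map bar) := by
  induction w with
  | nil => exact map_one gam
  | cons r w ih =>
    rw [List.map_cons, wd_cons, wd_cons, map_mul, ih fun s hs => h s (List.mem_cons_of_mem _ hs),
      show gam (x r) = x (bar r) from exists_graph.choose_spec r (h r List.mem_cons_self)]

open scoped Classical in
/-- the invariant -/
noncomputable def kf (g : LL) : ℕ :=
  cg prX pF g + 131072 * cg prX pF (gam g) + 17179869184 * (if g ^ 8 = 1 then cg prX pN g else 0)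

theorem kf_conj (g h : LL) : kf (h * g * h⁻¹) = kf g := by
  unfold kf
  have h1 : (h * g * h⁻¹) ^ 8 = 1 ↔ g ^ 8 = 1 := by
    rw [conj_pow, mul_inv_eq_one, mul_eq_left]
  rw [map_mul, map_mul, map_inv, cg_conj, cg_conj, cg_conj, if_congr h1 rfl rfl]

/-- the key -/
def key : Key LL ℤ where
  P g a := ∀ k, Nat.Coprime k (orderOf g) → (kf (g ^ k) : ℤ) = a
  func g _ _ ha hb := (ha 1 (Nat.coprime_one_left _)).symm.trans (hb 1 (Nat.coprime_one_left _))
  conj g h a ha k hk := by
    rw [orderOf_conj'] at hk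
    rw [conj_pow, kf_conj]
    exact ha k hk
  gal g k a hk ha j hj := by
    rw [hk.symm.orderOf_pow] at hj
    rw [← pow_mul]
    exact ha _ (Nat.Coprime.mul_left hk hj)

/-- the values of the key -/
def valN : List ℕ :=
  [9124646895, 562950622284015, 299766767, 562950118966511, 562950001525103, 41287743, 8257851, 1179657,
   879609329352831, 633318714245327, 316659401097343, 492581225890191, 281474996502679, 844424949923991,
   457396847509535, 562949957484623, 598134329573407, 457396848558119, 562949958533207, 562949957484575,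
   598134330621991, 562949954338823, 562949955387407, 1966095, 9830431, 4063307, 5636111, 1966123, 1179649,
   131081, 3538959, 1966107, 2490375, 917523, 131073, 2752512, 21, 606930419974155, 466192931618827,
   571746048933895, 501377304756231, 527765582250003, 598134326427667, 606930418925571, 536561675796483,
   606930418925579, 562949953814531, 562949953814531, 393216, 3, 917507, 393223, 393219, 917507, 393223,
   1179649, 131081, 917511, 917511, 917511, 917511, 917507, 393223, 131073, 131073, 393219, 393219, 131073,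
   131073, 0, 655360, 5, 393216, 3, 131073, 131073, 131073, 0, 131072, 1, 131073, 131073, 0, 0, 131073,
   131073, 131073, 131073, 131072, 1, 131072, 1]

/-- the values of the key -/
def val (t : ℕ) : ℤ := (valN.getD t 0 : ℕ)

/-! ### the checks -/

/-- all lanes -/
def allM (n : ℕ) : ℕ := Nat.sub (Nat.pow 2 n) 1

theorem allM_eq (n : ℕ) : allM n = 2 ^ n - 1 := rfl

theorem cgF_eq' {pr P : List ℕ} {n : ℕ} (hL : Lanes pr P n) (hn : n ≤ 131072) {g : LL} {R : List ℕ} (hR : Rows g R)
    (prog : List ℕ) : cgF P (allM n) (cmb 18 13) [] prog R = cg pr prog g := cgF_eq hL hn hR [] prog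

theorem cent_le' {pr P : List ℕ} {n : ℕ} (hL : Lanes pr P n) (hn : n ≤ 131072) {g : LL} {R : List ℕ}
    (hR : Rows g R) {β : List ℕ} {l : List St} (h : chainF pr P (allM n) (cmb 18 13) R β l [] = true) :
    Nat.card (Subgroup.centralizer ({g} : Set LL)) ≤ (l.map St.c).prod := cent_le hL hn hR h

theorem not_conj' {pr P : List ℕ} {n : ℕ} (hL : Lanes pr P n) (hn : n ≤ 131072) {g g' : LL} {R R' : List ℕ}
    (hR : Rows g R) (hR' : Rows g' R') {prog : List ℕ} {p : ℕ} (hp : p < 2 ^ 26) (h1 : psF unR [] pr p = true)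
    (h2 : psF R [] prog p = true) (h3 : cgF P (allM n) (cmb 18 13) [] prog R' = 0) : ¬ IsConj g g' :=
  not_conj hL hn hR hR' hp h1 h2 h3

/-- a count on the singular codes -/
noncomputable def cX (prog R : List ℕ) : ℕ := cgF PX (allM 69615) (cmb 18 13) [] prog R

/-- a count on the idempotents -/
noncomputable def cY (prog R : List ℕ) : ℕ := cgF PY (allM 69888) (cmb 18 13) [] prog R

theorem cX_eq {g : LL} {R : List ℕ} (hR : Rows g R) (prog : List ℕ) : cX prog R = cg prX prog g := by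
  rw [cX, cgF_eq' lanesX (by norm_num) hR]

theorem cY_eq {g : LL} {R : List ℕ} (hR : Rows g R) (prog : List ℕ) : cY prog R = cg prY prog g := by
  rw [cY, cgF_eq' lanesY (by norm_num) hR]

/-- the rows of the identity -/
noncomputable def oneB (R : List ℕ) : Bool := allL (fun k => Nat.beq (cdF R k) (Nat.pow 2 k)) (List.range 26)

theorem allL_of {β : Type} {f : β → Bool} {r : List β} (h : ∀ a ∈ r, f a = true) : allL f r = true := by
  induction r with
  | nil => rfl
  | cons b r ih =>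
    show cond (f b) (allL f r) false = true
    rw [h b List.mem_cons_self, cond_true]
    exact ih fun a ha => h a (List.mem_cons_of_mem _ ha)

theorem oneB_iff {g : LL} {R : List ℕ} (hR : Rows g R) : oneB R = true ↔ g = 1 := by
  constructor
  · intro h
    refine eq_one fun k hk => ?_
    have h1 := Nat.eq_of_beq_eq_true (allL_spec h k (List.mem_range.2 hk))
    rw [cdF_eq, ← ap_two_pow R hk, hR.2] at h1
    exact h1
  · intro h
    refine allL_of fun k hk => ?_
    rw [List.mem_range] at hk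
    rw [cdF_eq, ← ap_two_pow R hk, hR.2, h, L_one (Nat.pow_lt_pow_right (by norm_num) hk)]
    exact Nat.beq_refl _

/-- the value of the key -/
noncomputable def keyB (A A' : List ℕ) (v : ℕ) : Bool :=
  force (Nat.add (cX pF A) (Nat.mul 131072 (cX pF A'))) fun a => pwF A 8 fun A8 => cnd (oneB A8)
    (allL (fun j => pwF A j fun Aj => Nat.beq (Nat.add a (Nat.mul 17179869184 (cX pN Aj))) v) [1, 3, 5, 7])
    (Nat.beq a v)

theorem keyB_spec {y : LL} {A A' : List ℕ} (hA : Rows y A) (hA' : Rows (gam y) A') {v : ℕ} (h : keyB A A' v = true) :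
    key.P y (v : ℤ) := by
  have := finite_LL
  intro k hk
  obtain ⟨A8, h1, h2⟩ := pwF_spec hA 8
  rw [keyB, force_eq, h2, cX_eq hA, cX_eq hA'] at h
  have h3 : cg prX pF (gam (y ^ k)) = cg prX pF (gam y) := by
    have h4 : orderOf (gam y) = orderOf y := by
      rw [orderOf_eq_orderOf_iff]
      intro n
      rw [← map_pow, map_eq_one_iff gam gam.injective]
    have h5 : Nat.Coprime k (orderOf (gam y)) := by
      rw [h4]
      exact hk
    rw [map_pow, cg_pow prX h5]
  rw [Nat.cast_inj, kf, cg_pow _ hk, h3]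
  by_cases h8 : y ^ 8 = 1
  · rw [(oneB_iff h1).2 h8, cnd_true] at h
    obtain ⟨j, hj, h4⟩ := pow_odd h8 hk
    obtain ⟨Aj, h5, h6⟩ := pwF_spec hA j
    have h7 := allL_spec h j hj
    rw [h6, cX_eq h5] at h7
    rw [if_pos ((pow_eight hk).2 h8), h4]
    exact Nat.eq_of_beq_eq_true h7
  · have h4 : oneB A8 = false := by
      cases h5 : oneB A8
      · rfl
      · exact absurd ((oneB_iff h1).1 h5) h8
    rw [h4, cnd_false] at h
    rw [if_neg fun h5 => h8 ((pow_eight hk).1 h5)]
    exact Nat.eq_of_beq_eq_true h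

/-- comparison with an integer -/
noncomputable def eqZ (a : ℕ) (z : ℤ) : Bool := Int.rec (fun n => Nat.beq a n) (fun _ => false) z

theorem eqZ_spec {a : ℕ} {z : ℤ} (h : eqZ a z = true) : (a : ℤ) = z := by
  cases z with
  | ofNat n => exact congrArg Int.ofNat (Nat.eq_of_beq_eq_true h)
  | negSucc n => cases h

/-- the sum is singular -/
def qa : List ℕ := [24649, 66]

/-- the sum is isotropic and not singular -/
def qb : List ℕ := [24657, 10]

/-- the sum is idempotent -/
def qc : List ℕ := [24649, 82, 24641]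

/-- the values of the counts on the idempotents -/
def VY (p a b c : List ℤ) (t : ℕ) (g : LL) : Prop :=
  (cg prY pF g : ℤ) = nth p t ∧ (cg prY (80 :: qa) g : ℤ) = nth a t ∧ (cg prY (80 :: qb) g : ℤ) = nth b t ∧
    (cg prY (80 :: qc) g : ℤ) = nth c t

/-- the values of all counts -/
def VV (t : ℕ) (g : LL) : Prop := (cg prX pF g : ℤ) = nth pX t ∧ VY pY na nb nc t g ∧ VY pY' na' nb' nc' t (gam g)

theorem VY.conj {p a b c : List ℤ} {t : ℕ} {g h : LL} (hv : VY p a b c t g) (hc : IsConj g h) : VY p a b c t h :=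
  ⟨by rw [cg_isConj _ _ hc]; exact hv.1, by rw [cg_isConj _ _ hc]; exact hv.2.1,
    by rw [cg_isConj _ _ hc]; exact hv.2.2.1, by rw [cg_isConj _ _ hc]; exact hv.2.2.2⟩

theorem VV.conj {t : ℕ} {g h : LL} (hv : VV t g) (hc : IsConj g h) : VV t h :=
  ⟨by rw [cg_isConj _ _ hc]; exact hv.1, hv.2.1.conj hc, hv.2.2.conj (gam.toMonoidHom.map_isConj hc)⟩

/-- the check of the counts on the idempotents -/
noncomputable def vyB (p a b c : List ℤ) (t : ℕ) (R : List ℕ) : Bool :=
  band (eqZ (cY pF R) (nth p t)) (band (eqZ (cY (80 :: qa) R) (nth a t)) (band (eqZ (cY (80 :: qb) R) (nth b t))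
    (eqZ (cY (80 :: qc) R) (nth c t))))

theorem vyB_spec {p a b c : List ℤ} {t : ℕ} {g : LL} {R : List ℕ} (hR : Rows g R) (h : vyB p a b c t R = true) :
    VY p a b c t g := by
  obtain ⟨h1, h⟩ := band_true h
  obtain ⟨h2, h⟩ := band_true h
  obtain ⟨h3, h4⟩ := band_true h
  rw [cY_eq hR] at h1 h2 h3 h4
  exact ⟨eqZ_spec h1, eqZ_spec h2, eqZ_spec h3, eqZ_spec h4⟩

/-- the check of all counts -/
noncomputable def vvB (t : ℕ) (R R' : List ℕ) : Bool :=
  band (eqZ (cX pF R) (nth pX t)) (band (vyB pY na nb nc t R) (vyB pY' na' nb' nc' t R'))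

theorem vvB_spec {t : ℕ} {g : LL} {R R' : List ℕ} (hR : Rows g R) (hR' : Rows (gam g) R') (h : vvB t R R' = true) :
    VV t g := by
  obtain ⟨h1, h⟩ := band_true h
  obtain ⟨h2, h3⟩ := band_true h
  rw [cX_eq hR] at h1
  exact ⟨eqZ_spec h1, vyB_spec hR h2, vyB_spec hR' h3⟩

/-- the data of a representative -/
structure RD where
  w : List ℕ
  k : ℕ
  st : List St
  β : List ℕ
  e : ℕ
  f : ℕ
  p : ℕ
  prog : List ℕ

/-- the check of a representative -/
noncomputable def chkR (t : ℕ) (r : RD) : Bool :=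
  band (allL (fun a => Nat.blt a 48) r.w) (wdF r.w fun W => pwF W r.k fun R => wdF (r.w.map bar) fun W' =>
    pwF W' r.k fun R' => band (pwF R (D.ord t) oneB)
      (band (allL (fun p => pwF R p.1 fun A => pwF R' p.1 fun A' => keyB A A' (valN.getD p.2 0)) (D.pw t))
        (band (vvB t R R') (band (chainF prX PX (allM 69615) (cmb 18 13) R r.β r.st [])
          (cnd (Nat.beq r.e 1) (Nat.ble (D.cnt t) (Nat.div D.N (r.st.map St.c).prod))
            (pwF R r.e fun S => pwF R' r.e fun S' => band (vvB t S S')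
              (band (Nat.ble (D.cnt t) (Nat.mul 2 (Nat.div D.N (r.st.map St.c).prod)))
                (band (Nat.beq (Nat.mod (Nat.mul r.e r.f) (D.ord t)) 1) (band (Nat.blt r.p 67108864)
                  (band (psF unR [] prX r.p) (band (psF R [] r.prog r.p) (Nat.beq (cX r.prog S) 0))))))))))))

/-- what is needed for a type -/
def Good (t : ℕ) : Prop := ∃ x y : LL, Ty key D val t x ∧ Ty key D val t y ∧
  D.cnt t ≤ Nat.card {g : LL // IsConj x g ∨ IsConj y g} ∧ VV t x ∧ VV t y

theorem key_one : key.P 1 (val 0) :=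
  keyB_spec rows_one (by rw [map_one]; exact rows_one) (v := valN.getD 0 0) (by decide +kernel)

theorem okOrd_D : okOrd D val = true := by decide +kernel

theorem good_of {t : ℕ} (ht : t < 92) {r : RD} (h : chkR t r = true) : Good t := by
  have := finite_LL
  obtain ⟨h0, h⟩ := band_true h
  obtain ⟨W, hW, e1⟩ := wdF_spec r.w
  obtain ⟨R, hR, e2⟩ := pwF_spec hW r.k
  obtain ⟨W', hW', e3⟩ := wdF_spec (r.w.map bar)
  obtain ⟨R', hR', e4⟩ := pwF_spec hW' r.k
  rw [e1, e2, e3, e4] at h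
  rw [← gam_wd r.w fun a ha => Nat.blt_eq.mp (allL_spec h0 a ha), ← map_pow] at hR'
  obtain ⟨x, hx⟩ : ∃ x, x = wd r.w ^ r.k := ⟨_, rfl⟩
  rw [← hx] at hR hR'
  obtain ⟨h1, h⟩ := band_true h
  obtain ⟨h2, h⟩ := band_true h
  obtain ⟨h3, h⟩ := band_true h
  obtain ⟨h4, h⟩ := band_true h
  obtain ⟨O, hO, e5⟩ := pwF_spec hR (D.ord t)
  rw [e5] at h1
  have h5 : x ^ D.ord t = 1 := (oneB_iff hO).1 h1
  have h6 : Ty key D val t x := ty_of_vals okOrd_D key_one ht h5 fun p hp => by
    have h7 := allL_spec h2 p hp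
    obtain ⟨A, hA, e6⟩ := pwF_spec hR p.1
    obtain ⟨A', hA', e7⟩ := pwF_spec hR' p.1
    rw [e6, e7] at h7
    rw [← map_pow] at hA'
    exact keyB_spec hA hA' h7
  have h7 := vvB_spec hR hR' h3
  have h8 := cent_le' lanesX (by norm_num) hR h4
  have hN : Nat.card LL = D.N := card_LL
  rw [cnd_beq] at h
  split_ifs at h with he
  · refine ⟨x, x, h6, h6, ?_, h7, h7⟩
    refine (Nat.le_of_ble_eq_true h).trans ?_
    rw [← hN]
    exact le_one h8
  · obtain ⟨S, hS, e6⟩ := pwF_spec hR r.e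
    obtain ⟨S', hS', e7⟩ := pwF_spec hR' r.e
    rw [e6, e7] at h
    rw [← map_pow] at hS'
    obtain ⟨g1, h⟩ := band_true h
    obtain ⟨g2, h⟩ := band_true h
    obtain ⟨g3, h⟩ := band_true h
    obtain ⟨g4, h⟩ := band_true h
    obtain ⟨g5, h⟩ := band_true h
    obtain ⟨g6, g7⟩ := band_true h
    have g8 : r.e * r.f % D.ord t = 1 := Nat.eq_of_beq_eq_true g3
    have g9 : (x ^ r.e) ^ r.f = x := by
      rw [← pow_mul, ← Nat.div_add_mod (r.e * r.f) (D.ord t), g8, pow_add, pow_mul, h5, one_pow, one_mul, pow_one]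
    have g10 : Nat.Coprime r.e (orderOf x) := by
      rw [h6.1]
      exact Nat.Coprime.coprime_mul_right (k := r.f) (Nat.coprime_of_mul_modEq_one 1 (by
        rw [mul_one, Nat.ModEq, g8]
        have : D.ord t ≠ 1 := fun h => by rw [h, Nat.mod_one] at g8; exact zero_ne_one g8
        have : D.ord t ≠ 0 := h6.1 ▸ (orderOf_pos x).ne'
        exact (Nat.mod_eq_of_lt (by omega)).symm))
    have g11 := Nat.eq_of_beq_eq_true g7
    rw [cX] at g11
    refine ⟨x, x ^ r.e, h6, ty_rc h6 ⟨r.e, g10, IsConj.refl _⟩, ?_, h7, vvB_spec hS hS' g1⟩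
    refine (Nat.le_of_ble_eq_true g2).trans ?_
    rw [← hN]
    exact le_two h8 g9 (not_conj' lanesX (by norm_num) hR hS (Nat.blt_eq.mp g4) g5 g6 g11)

theorem good_zero : Good 0 := by
  have := finite_LL
  have h1 : Ty key D val 0 1 := ⟨orderOf_one, fun p hp => by cases hp⟩
  have h2 : VV 0 1 := vvB_spec rows_one (by rw [map_one]; exact rows_one) (by decide +kernel)
  exact ⟨1, 1, h1, h1, Nat.card_pos_iff.2 ⟨⟨⟨1, Or.inl (IsConj.refl _)⟩⟩, inferInstance⟩, h2, h2⟩

/-! ### the sets of points -/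

theorem evS_noR (f f' : ℕ → ℕ) (fx : List ℕ) : ∀ (l regs : List ℕ) (ok : Bool), (∀ o ∈ l, o % 8 ≠ 0) →
    evS f fx l regs ok = evS f' fx l regs ok
  | [], _, _, _ => rfl
  | o :: l, regs, ok, h => by
    have h1 : opS f fx regs (o % 8) (o / 128 % 64) (o / 8192) = opS f' fx regs (o % 8) (o / 128 % 64) (o / 8192) := by
      unfold opS
      rw [if_neg (h o List.mem_cons_self), if_neg (h o List.mem_cons_self)]
    rw [evS, evS, h1, evS_noR f f' fx l _ _ fun a ha => h a (List.mem_cons_of_mem _ ha)]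

theorem ps_rel (g : LL) {q : List ℕ} (hq : ∀ o ∈ q, o % 8 ≠ 0) (c : ℕ) :
    Ps g [] (80 :: q) c ↔ (evS id [] q [L g c, c] true).2 = true := by
  have e : evS (L g) [] (80 :: q) [c] true = evS (L g) [] q [L g c, c] true := by
    simp [evS, opS, tsS]
  rw [Ps, e, evS_noR (L g) id [] q _ _ hq]

/-- the action on the points -/
@[reducible] noncomputable def act (φ : LL →* LL) (pr : List ℕ) : MulAction LL {c : ℕ // Pt pr c} where
  smul g c := ⟨L (φ g) c.1, c.2.map _⟩
  one_smul c := Subtype.ext (by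
    show L (φ 1) c.1 = c.1
    rw [map_one, L_one c.2.1])
  mul_smul g h c := Subtype.ext (by
    show L (φ (g * h)) c.1 = L (φ g) (L (φ h) c.1)
    rw [map_mul, L_mul])

theorem orb_of (T : TD LL D) (φ : LL →* LL) (pr : List ℕ) {p : List ℤ} {Ns : List (List ℤ)}
    (hp : ∀ g, (cg pr pF (φ g) : ℤ) = nth p (T.ty g))
    (hN : ∀ N ∈ Ns, ∃ q : List ℕ, (∀ o ∈ q, o % 8 ≠ 0) ∧ ∀ g, (cg pr (80 :: q) (φ g) : ℤ) = nth N (T.ty g)) :
    Orb T p Ns := by
  classical
  have hf : Finite {c : ℕ // Pt pr c} :=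
    Finite.of_injective (β := Fin (2 ^ 26)) (fun c => ⟨c.1, c.2.1⟩) fun _ _ h => Subtype.ext (congrArg Fin.val h)
  let _ := Fintype.ofFinite {c : ℕ // Pt pr c}
  let _ := act φ pr
  refine ⟨{c : ℕ // Pt pr c}, inferInstance, act φ pr, fun g => ?_, fun N hm => ?_⟩
  · rw [← hp g, cg]
    congr 1
    refine Nat.card_congr ⟨fun c => ⟨c.1.1, c.1.2, (ps_pF _ _).2 (congrArg Subtype.val c.2)⟩,
      fun c => ⟨⟨c.1, c.2.1⟩, Subtype.ext ((ps_pF _ _).1 c.2.2)⟩, fun c => rfl, fun c => rfl⟩
  · obtain ⟨q, h1, h2⟩ := hN N hm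
    refine ⟨fun a b => if (evS id [] q [b.1, a.1] true).2 = true then 1 else 0, fun g => ?_⟩
    rw [← h2 g, cg, Finset.sum_boole, ← Fintype.card_subtype, ← Nat.card_eq_fintype_card]
    congr 1
    exact Nat.card_congr ⟨fun c => ⟨c.1.1, c.1.2, (ps_rel _ h1 _).2 c.2⟩,
      fun c => ⟨⟨c.1, c.2.1⟩, (ps_rel _ h1 _).1 c.2.2⟩, fun c => rfl, fun c => rfl⟩

theorem orb_Y (T : TD LL D) (φ : LL →* LL) {p a b c : List ℤ} (h : ∀ g, VY p a b c (T.ty g) (φ g)) :
    Orb T p [a, b, c] := by
  refine orb_of T φ prY (fun g => (h g).1) fun N hN => ?_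
  simp only [List.mem_cons, List.not_mem_nil, or_false] at hN
  rcases hN with rfl | rfl | rfl
  · exact ⟨qa, by decide, fun g => (h g).2.1⟩
  · exact ⟨qb, by decide, fun g => (h g).2.2.1⟩
  · exact ⟨qc, by decide, fun g => (h g).2.2.2⟩

theorem in_of (h : ∀ t < 92, Good t) : In := by
  have := finite_LL
  obtain ⟨T, hm, hV⟩ := exists_cls (K := key) (D := D) (val := val) (by decide +kernel) (by decide +kernel)
    (by decide +kernel) card_LL (V := VV) (fun _ _ _ hv hc => hv.conj hc) h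
  exact ⟨T, hm, (orb_of T (MonoidHom.id LL) prX (Ns := []) (fun g => (hV g).1) (by simp)).virt,
    orb_Y T (MonoidHom.id LL) fun g => (hV g).2.1, orb_Y T gam.toMonoidHom fun g => (hV g).2.2⟩

end Cfsg.Agent.TAB.F42.G
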