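import Cfsg.Agent.TAB.F42.G.Eng
import Cfsg.Agent.FourTwo.Classes

/-!
# Certificates on an invariant set of codes (helper47, TAB, `F₄(2)`)

* `Pt pr` : the codes which pass the program `pr`; `Lanes pr P n` : they are the lanes of `P`; `lanes_of`;
* `cg pr prog g` : the number of the points which pass `prog` for the element `g`, a class function; `cg_eq`;
* `chain_sound` : upper bounds of centralizers; `not_conj` : two elements are not conjugate.
-/

set_option autoImplicit false
set_option maxRecDepth 100000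

namespace Cfsg.Agent.TAB.F42.G

open Cfsg.Agent.FourTwo.Base
open Cfsg.Agent.H123.Cls
open Cfsg.Agent.Lib.BitNetSimple (force force_eq)
open Cfsg.Agent.Lib.BitNet (value)

theorem card_LL : Nat.card LL = 3311126603366400 := FourTwo.Classes.card_LL.trans (by norm_num)

theorem finite_LL : Finite LL := Nat.finite_of_card_ne_zero (by rw [card_LL]; norm_num)

/-- the code passes the tests -/
def Ps (g : LL) (fx prog : List ℕ) (c : ℕ) : Prop := (evS (L g) fx prog [c] true).2 = true

theorem ps_map {h g g' : LL} (hc : h * g = g' * h) {fx : List ℕ} (hfx : fx.map (L h) = fx) (prog : List ℕ) {c : ℕ}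
    (hl : c < 2 ^ 26) : Ps g' fx prog (L h c) ↔ Ps g fx prog c := by
  have := evS_map hc hfx prog [c] true (by simpa using hl)
  unfold Ps
  rw [show [L h c] = [c].map (L h) from rfl, this]

/-- the points -/
def Pt (pr : List ℕ) (c : ℕ) : Prop := c < 2 ^ 26 ∧ Ps 1 [] pr c

theorem Pt.map {pr : List ℕ} {c : ℕ} (h : Pt pr c) (g : LL) : Pt pr (L g c) :=
  ⟨L_lt g c, (ps_map (g := 1) (by rw [mul_one, one_mul]) rfl pr h.1).2 h.2⟩

/-- the points are the lanes -/
structure Lanes (pr P : List ℕ) (n : ℕ) : Prop where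
  len : P.length = 26
  pt : ∀ j < n, Pt pr (value P j)
  inj : ∀ i < n, ∀ j < n, value P i = value P j → i = j
  surj : ∀ c, Pt pr c → ∃ j < n, value P j = c

theorem testBit_all (n j : ℕ) : (2 ^ n - 1).testBit j = decide (j < n) := Nat.testBit_two_pow_sub_one n j

/-- the mask of a program -/
theorem mask_spec {g : LL} {R : List ℕ} (hR : Rows g R) (fx prog : List ℕ) {P : List ℕ} (hP : P.length = 26) (n : ℕ) :
    ∃ (regs : List (List ℕ)) (m : ℕ),
      (∀ {α : Type} (κ : List (List ℕ) → ℕ → α), runF R (2 ^ n - 1) fx prog [P] (2 ^ n - 1) κ = κ regs m) ∧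
      (∀ j, m.testBit j = true ↔ j < n ∧ Ps g fx prog (value P j)) ∧
      ∀ j < n, (regs.map fun Q => value Q j) = (evS (L g) fx prog [value P j] true).1 := by
  obtain ⟨regs, m, h1, h2, h3⟩ := runF_spec hR.1 (2 ^ n - 1) fx prog [P] (2 ^ n - 1) (by simpa using hP)
  have h4 : ∀ j < n, evS (L g) fx prog [value P j] true = (regs.map fun Q => value Q j, m.testBit j) := fun j hj => by
    have h5 : (2 ^ n - 1).testBit j = true := by rw [testBit_all, decide_eq_true hj]
    have h6 := h3 j h5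
    rw [h5, hR.2] at h6
    exact h6
  refine ⟨regs, m, h1, fun j => ⟨fun h => ?_, fun h => ?_⟩, fun j hj => by rw [h4 j hj]⟩
  · have h5 := h2 j h
    rw [testBit_all, decide_eq_true_eq] at h5
    exact ⟨h5, by rw [Ps, h4 j h5]; exact h⟩
  · have h5 := h.2
    rw [Ps, h4 j h.1] at h5
    exact h5

/-! ### all codes -/

/-- the lanes `0, 1, 2, …` -/
noncomputable def patF {α : Type} (b : ℕ) : (List ℕ → α) → α :=
  Nat.rec (fun κ => κ []) (fun k ih κ => ih fun l => force (Nat.pow 2 k) fun e =>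
    linF [] [] fun _ => κ (l.map (fun x => Nat.lor x (Nat.shiftLeft x e)) ++
      [Nat.shiftLeft (Nat.sub (Nat.pow 2 e) 1) e])) b

theorem value_append : ∀ (P Q : List ℕ) (j : ℕ), value (P ++ Q) j = value P j + 2 ^ P.length * value Q j
  | [], Q, j => by simp [value]
  | a :: P, Q, j => by
    rw [List.cons_append, value, value, value_append P, List.length_cons, pow_succ]
    ring

theorem patF_spec (b : ℕ) : ∃ l : List ℕ, l.length = b ∧ (∀ {α : Type} (κ : List ℕ → α), patF b κ = κ l) ∧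
    (∀ x ∈ l, x < 2 ^ 2 ^ b) ∧ ∀ j < 2 ^ b, value l j = j := by
  induction b with
  | zero => exact ⟨[], rfl, fun κ => rfl, by simp, fun j hj => by simp at hj; simp [value, hj]⟩
  | succ b ih =>
    obtain ⟨l, h1, h2, h3, h4⟩ := ih
    have hp : 2 ^ (b + 1) = 2 ^ b + 2 ^ b := by ring
    refine ⟨l.map (fun x => x ||| x <<< 2 ^ b) ++ [(2 ^ 2 ^ b - 1) <<< 2 ^ b], by simp [h1], fun κ => ?_,
      fun x hx => ?_, fun j hj => ?_⟩
    · have e : patF (b + 1) κ = patF b fun l => force (Nat.pow 2 b) fun e =>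
        linF [] [] fun _ => κ (l.map (fun x => Nat.lor x (Nat.shiftLeft x e)) ++
          [Nat.shiftLeft (Nat.sub (Nat.pow 2 e) 1) e]) := rfl
      rw [e, h2, force_eq, linF_eq]
      rfl
    · rcases List.mem_append.1 hx with hx | hx
      · obtain ⟨y, hy, rfl⟩ := List.mem_map.1 hx
        refine Nat.or_lt_two_pow ((h3 y hy).trans_le (Nat.pow_le_pow_right (by norm_num)
          (by rw [hp]; exact Nat.le_add_right _ _))) ?_
        rw [Nat.shiftLeft_eq, hp, pow_add]
        exact Nat.mul_lt_mul_of_pos_right (h3 y hy) (by positivity)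
      · rw [List.mem_singleton.1 hx, Nat.shiftLeft_eq, hp, pow_add]
        exact Nat.mul_lt_mul_of_pos_right (Nat.sub_lt (by positivity) one_pos) (by positivity)
    · rw [value_append, List.length_map, h1, value, value, Nat.testBit_shiftLeft, testBit_all, value_eq, List.map_map]
      by_cases h5 : j < 2 ^ b
      · have h6 : (l.map ((fun a => a.testBit j) ∘ fun x => x ||| x <<< 2 ^ b)) = l.map fun a => a.testBit j :=
          List.map_congr_left fun x _ => by
            show (x ||| x <<< 2 ^ b).testBit j = _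
            rw [Nat.testBit_or, Nat.testBit_shiftLeft, decide_eq_false (by omega), Bool.false_and, Bool.or_false]
        rw [h6, ← value_eq, h4 j h5, decide_eq_false (by omega)]
        simp
      · have h6 : (l.map ((fun a => a.testBit j) ∘ fun x => x ||| x <<< 2 ^ b)) =
            l.map fun a => a.testBit (j - 2 ^ b) :=
          List.map_congr_left fun x hx => by
            show (x ||| x <<< 2 ^ b).testBit j = _
            rw [Nat.testBit_or, Nat.testBit_shiftLeft, decide_eq_true (by omega), Bool.true_and,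
              Nat.testBit_lt_two_pow ((h3 x hx).trans_le (Nat.pow_le_pow_right (by norm_num) (by omega))),
              Bool.false_or]
        rw [h6, ← value_eq, h4 _ (by omega), decide_eq_true (by omega), decide_eq_true (by omega)]
        simp only [Bool.and_self, Bool.toNat_true, mul_zero, add_zero, mul_one]
        omega

/-- the number of the points in a block of codes -/
noncomputable def blockF (pr : List ℕ) (a b w k t : ℕ) : ℕ :=
  fB (Nat.sub (Nat.pow 2 (Nat.pow 2 b)) 1) fun M => patF b fun P => bcF M a t fun Q =>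
    runF unR M [] pr [P ++ Q] M fun _ m => popS w (cmb w k) m

open scoped Classical in
theorem blockF_eq (pr : List ℕ) {a b w k t : ℕ} (hab : b + a = 26) (hw : 0 < w) (hk : 2 ^ b ≤ w * 2 ^ k)
    (hb : 2 ^ b < 2 ^ w - 1) (ht : t < 2 ^ a) :
    blockF pr a b w k t = ∑ j ∈ Finset.range (2 ^ b), if Ps 1 [] pr (2 ^ b * t + j) then 1 else 0 := by
  obtain ⟨P, h1, h2, -, h4⟩ := patF_spec b
  obtain ⟨Q, h5, h6, h7⟩ := bcF_spec (2 ^ 2 ^ b - 1) a t
  obtain ⟨regs, m, h8, h9, -⟩ := mask_spec rows_one [] pr (P := P ++ Q) (by rw [List.length_append, h1, h5, hab])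
    (2 ^ b)
  have e : blockF pr a b w k t = popS w (cmb w k) m := by
    rw [blockF, fB_eq, h2]
    exact (h6 _).trans (h8 _)
  rw [e, popS_cnt hw hk hb fun i hi => ((h9 i).1 hi).1, cnt, Finset.card_filter]
  refine Finset.sum_congr rfl fun j hj => ?_
  rw [Finset.mem_range] at hj
  have h10 : value (P ++ Q) j = 2 ^ b * t + j := by
    rw [value_append, h4 j hj, h1, h7 j (by rw [testBit_all, decide_eq_true hj]), Nat.mod_eq_of_lt ht, add_comm]
  rw [if_congr (h9 j) rfl rfl, h10]
  simp [hj]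

/-- the check of the lanes -/
noncomputable def lanesB (pr P : List ℕ) (n : ℕ) : Bool :=
  fB (Nat.sub (Nat.pow 2 (Nat.succ n)) 1) fun M => band (runF unR M [] pr [P] M fun _ m => Nat.beq m M)
    (Nat.beq (Nat.land (ltF P (P.map fun x => Nat.shiftRight x 1) 0) (Nat.sub (Nat.pow 2 n) 1))
      (Nat.sub (Nat.pow 2 n) 1))

open scoped Classical in
theorem lanes_of {pr P : List ℕ} {n a b : ℕ} (hab : b + a = 26) (hP : P.length = 26) (h : lanesB pr P n = true)
    (hs : ∑ t ∈ Finset.range (2 ^ a), (∑ j ∈ Finset.range (2 ^ b), if Ps 1 [] pr (2 ^ b * t + j) then 1 else 0) =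
      n + 1) : Lanes pr P (n + 1) := by
  obtain ⟨regs, m, h1, h2, -⟩ := mask_spec rows_one [] pr hP (n + 1)
  rw [lanesB, fB_eq] at h
  obtain ⟨h3, h4⟩ := band_true h
  have h5 : m = 2 ^ (n + 1) - 1 := Nat.eq_of_beq_eq_true ((h1 _).symm.trans h3)
  have hpt : ∀ j < n + 1, Pt pr (value P j) := fun j hj =>
    ⟨hP ▸ value_lt P j, ((h2 j).1 (by rw [h5, testBit_all, decide_eq_true hj])).2⟩
  have h6 : ∀ j < n, value P j < value P (j + 1) := fun j hj => by
    have h7 : (ltF P (P.map fun x => x >>> 1) 0 &&& (2 ^ n - 1)) = 2 ^ n - 1 := Nat.eq_of_beq_eq_true h4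
    have h8 := congrArg (fun x => x.testBit j) h7
    simp only [Nat.testBit_and, testBit_all, hj, decide_true, Bool.and_true] at h8
    have h9 := (testBit_ltF j P _ 0 (by rw [List.length_map])).1 h8
    have h10 : value (P.map fun x => x >>> 1) j = value P (j + 1) := by
      rw [value_eq, value_eq, List.map_map]
      exact congrArg code (List.map_congr_left fun x _ => by
        show (x >>> 1).testBit j = _
        rw [Nat.testBit_shiftRight, add_comm])
    rw [h10, Nat.zero_testBit] at h9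
    simpa using h9
  have h7 : ∀ d i, i + d + 1 < n + 1 → value P i < value P (i + d + 1) := fun d => by
    induction d with
    | zero => exact fun i hi => h6 i (by omega)
    | succ d ih => exact fun i hi => (ih i (by omega)).trans (h6 (i + d + 1) (by omega))
  have hinj : ∀ i < n + 1, ∀ j < n + 1, value P i = value P j → i = j := fun i hi j hj hij => by
    rcases lt_trichotomy i j with h8 | h8 | h8
    · obtain ⟨d, rfl⟩ := Nat.exists_eq_add_of_lt h8
      exact absurd hij (h7 d i hj).ne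
    · exact h8
    · obtain ⟨d, rfl⟩ := Nat.exists_eq_add_of_lt h8
      exact absurd hij.symm (h7 d j hi).ne
  refine ⟨hP, hpt, hinj, fun c hc => ?_⟩
  obtain ⟨N, hN⟩ : ∃ N, N = 2 ^ b * 2 ^ a := ⟨_, rfl⟩
  have hN' : N = 2 ^ 26 := by rw [hN, ← pow_add, hab]
  have h8 : ((Finset.range N).filter fun c => Ps 1 [] pr c).card = n + 1 := by
    rw [Finset.card_filter, hN, sum_blocks, hs]
  have h9 : (Finset.range (n + 1)).image (value P) = (Finset.range N).filter fun c => Ps 1 [] pr c := by
    refine Finset.eq_of_subset_of_card_le (fun c hc => ?_) ?_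
    · obtain ⟨j, hj, rfl⟩ := Finset.mem_image.1 hc
      have := hpt j (Finset.mem_range.1 hj)
      exact Finset.mem_filter.2 ⟨Finset.mem_range.2 (hN' ▸ this.1), this.2⟩
    · rw [h8, Finset.card_image_of_injOn fun i hi j hj hij =>
        hinj i (Finset.mem_range.1 hi) j (Finset.mem_range.1 hj) hij, Finset.card_range]
  have h10 : c ∈ (Finset.range (n + 1)).image (value P) :=
    h9 ▸ Finset.mem_filter.2 ⟨Finset.mem_range.2 (hN' ▸ hc.1), hc.2⟩
  obtain ⟨j, hj, h11⟩ := Finset.mem_image.1 h10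
  exact ⟨j, Finset.mem_range.1 hj, h11⟩

/-! ### counts -/

/-- the number of the points which pass the program -/
noncomputable def cg (pr prog : List ℕ) (g : LL) : ℕ := Nat.card {c : ℕ // Pt pr c ∧ Ps g [] prog c}

theorem cg_conj (pr prog : List ℕ) (g h : LL) : cg pr prog (h * g * h⁻¹) = cg pr prog g := by
  have hc : h * g = h * g * h⁻¹ * h := by group
  have hc' : h⁻¹ * (h * g * h⁻¹) = g * h⁻¹ := by group
  refine Nat.card_congr ⟨fun c => ⟨L h⁻¹ c.1, c.2.1.map _, (ps_map hc' rfl prog c.2.1.1).2 c.2.2⟩,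
    fun c => ⟨L h c.1, c.2.1.map _, (ps_map hc rfl prog c.2.1.1).2 c.2.2⟩, fun c => ?_, fun c => ?_⟩
  · exact Subtype.ext (L_inv' h c.2.1.1)
  · exact Subtype.ext (L_inv h c.2.1.1)

theorem card_mask {pr P : List ℕ} {n : ℕ} (hL : Lanes pr P n) {S : ℕ → Prop} {m : ℕ}
    (hm : ∀ j, m.testBit j = true ↔ j < n ∧ S (value P j)) : Nat.card {c : ℕ // Pt pr c ∧ S c} = cnt n m := by
  rw [cnt, ← Fintype.card_coe, ← Nat.card_eq_fintype_card]
  symm
  refine Nat.card_congr (Equiv.ofBijective (fun j => ⟨value P j.1, ?_, ?_⟩) ⟨fun i j hij => ?_, fun c => ?_⟩)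
  · exact hL.pt _ (Finset.mem_range.1 (Finset.mem_filter.1 j.2).1)
  · exact ((hm _).1 (Finset.mem_filter.1 j.2).2).2
  · exact Subtype.ext (hL.inj _ (Finset.mem_range.1 (Finset.mem_filter.1 i.2).1) _
      (Finset.mem_range.1 (Finset.mem_filter.1 j.2).1) (congrArg Subtype.val hij))
  · obtain ⟨j, hj, h1⟩ := hL.surj c.1 c.2.1
    exact ⟨⟨j, Finset.mem_filter.2 ⟨Finset.mem_range.2 hj, (hm j).2 ⟨hj, h1 ▸ c.2.2⟩⟩⟩, Subtype.ext h1⟩

/-- the count in the kernel; `M` is the mask of all lanes, `C` the comb -/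
noncomputable def cgF (P : List ℕ) (M C : ℕ) (fx prog R : List ℕ) : ℕ :=
  runF R M fx prog [P] M fun _ m => popS 18 C m

theorem cgF_eq {pr P : List ℕ} {n : ℕ} (hL : Lanes pr P n) (hn : n ≤ 2 ^ 17) {g : LL} {R : List ℕ} (hR : Rows g R)
    (fx prog : List ℕ) :
    cgF P (2 ^ n - 1) (cmb 18 13) fx prog R = Nat.card {c : ℕ // Pt pr c ∧ Ps g fx prog c} := by
  obtain ⟨regs, m, h1, h2, -⟩ := mask_spec hR fx prog hL.len n
  rw [cgF, h1, popS_cnt (n := n) (by norm_num) (by omega) (by omega) fun i hi => ((h2 i).1 hi).1, card_mask hL h2]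

theorem finite_pt (pr : List ℕ) (S : ℕ → Prop) : Finite {c : ℕ // Pt pr c ∧ S c} :=
  Finite.of_injective (β := Fin (2 ^ 26)) (fun c => ⟨c.1, c.2.1.1⟩) fun _ _ h => Subtype.ext (congrArg Fin.val h)

/-! ### centralizers -/

/-- the stabilizer of a code -/
def stab (p : ℕ) : Subgroup LL where
  carrier := {g | L g p = L 1 p}
  mul_mem' := fun {a b} ha hb => by
    have h1 : L b p = L 1 p := hb
    show L (a * b) p = L 1 p
    rw [L_mul, h1, ← L_mul, mul_one]
    exact ha
  one_mem' := rfl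
  inv_mem' := fun {a} ha => by
    have h1 : L a p = L 1 p := ha
    show L a⁻¹ p = L 1 p
    rw [← mul_one a⁻¹, L_mul, ← h1, ← L_mul, inv_mul_cancel, h1]

theorem card_step (H : Subgroup LL) (p : ℕ) {S : ℕ → Prop} [Finite {c : ℕ // S c}] (hS : ∀ h ∈ H, S (L h p)) :
    Nat.card H ≤ Nat.card {c : ℕ // S c} * Nat.card ↥(H ⊓ stab p) := by
  let K : Subgroup H := (H ⊓ stab p).subgroupOf H
  have e1 : Nat.card K = Nat.card ↥(H ⊓ stab p) :=
    Nat.card_congr (Subgroup.subgroupOfEquivOfLe inf_le_left).toEquiv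
  have key : ∀ a b : H, (QuotientGroup.leftRel K) a b ↔ L (a : LL) p = L (b : LL) p := fun a b => by
    rw [QuotientGroup.leftRel_apply]
    constructor
    · intro hab
      have h2 : L ((a : LL)⁻¹ * b) p = L 1 p := (Subgroup.mem_inf.1 (Subgroup.mem_subgroupOf.1 hab)).2
      have h3 := congrArg (L (a : LL)) h2
      rw [← L_mul, ← L_mul, mul_inv_cancel_left, mul_one] at h3
      exact h3.symm
    · intro hab
      refine Subgroup.mem_subgroupOf.2 (Subgroup.mem_inf.2 ⟨(a⁻¹ * b).2, ?_⟩)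
      show L ((a : LL)⁻¹ * b) p = L 1 p
      rw [L_mul, ← hab, ← L_mul, inv_mul_cancel]
  have e2 : Nat.card (H ⧸ K) ≤ Nat.card {c : ℕ // S c} := by
    refine Nat.card_le_card_of_injective (fun q : H ⧸ K => Quotient.liftOn' q
      (fun a => (⟨L (a : LL) p, hS a a.2⟩ : {c : ℕ // S c})) fun a b hab => Subtype.ext ((key a b).1 hab)) ?_
    intro q q' h
    induction q using Quotient.inductionOn' with
    | h a =>
      induction q' using Quotient.inductionOn' with
      | h b => exact Quotient.sound' ((key a b).2 (congrArg Subtype.val h))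
  rw [Subgroup.card_eq_card_quotient_mul_card_subgroup K, e1]
  exact Nat.mul_le_mul_right _ e2

/-- one lane -/
theorem one_spec {g : LL} {R : List ℕ} (hR : Rows g R) (fx prog : List ℕ) {p : ℕ} (hp : p < 2 ^ 26) :
    ∃ (regs : List (List ℕ)) (m : ℕ),
      (∀ {α : Type} (κ : List (List ℕ) → ℕ → α), bcF 1 26 p (fun pl => runF R 1 fx prog [pl] 1 κ) = κ regs m) ∧
      (m = 1 → Ps g fx prog p) ∧ (regs.map fun Q => value Q 0) = (evS (L g) fx prog [p] true).1 := by
  obtain ⟨pl, h1, h2, h3⟩ := bcF_spec 1 26 p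
  obtain ⟨regs, m, h4, h5, h6⟩ := mask_spec hR fx prog h1 1
  have h7 : value pl 0 = p := (h3 0 rfl).trans (Nat.mod_eq_of_lt hp)
  refine ⟨regs, m, fun κ => (h2 _).trans (h4 κ), fun h => h7 ▸ ((h5 0).1 (h ▸ rfl)).2, h7 ▸ h6 0 one_pos⟩

/-- the code passes the program -/
noncomputable def psF (R fx prog : List ℕ) (p : ℕ) : Bool :=
  bcF 1 26 p fun pl => runF R 1 fx prog [pl] 1 fun _ m => Nat.beq m 1

theorem psF_spec {g : LL} {R fx prog : List ℕ} (hR : Rows g R) {p : ℕ} (hp : p < 2 ^ 26)
    (h : psF R fx prog p = true) : Ps g fx prog p := by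
  obtain ⟨regs, m, h1, h2, -⟩ := one_spec hR fx prog hp
  exact h2 (Nat.eq_of_beq_eq_true ((h1 _).symm.trans h))

/-- the codes of the registers in front of a list -/
noncomputable def valF {α : Type} (regs : List (List ℕ)) (fx : List ℕ) : (List ℕ → α) → α :=
  List.rec (fun κ => κ fx) (fun Q _ ih κ => force (cdF Q 0) fun y => ih fun l => κ (y :: l)) regs

theorem valF_eq {α : Type} (fx : List ℕ) : ∀ (regs : List (List ℕ)) (κ : List ℕ → α),
    valF regs fx κ = κ ((regs.map fun Q => value Q 0) ++ fx)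
  | [], κ => rfl
  | Q :: regs, κ => by
    show force (cdF Q 0) (fun y => valF regs fx fun l => κ (y :: l)) = _
    rw [force_eq, valF_eq fx regs, cdF_eq]
    rfl

/-- a step: the point, the tests, the new fixed codes, the bound -/
structure St where
  p : ℕ
  prog : List ℕ
  ext : List ℕ
  c : ℕ

/-- the chain of stabilizers -/
noncomputable def chainF (pr P : List ℕ) (M C : ℕ) (R β : List ℕ) (l : List St) : List ℕ → Bool :=
  List.rec (fun fx => chkU fx β unR) (fun s _ ih fx =>
    band (Nat.blt s.p 67108864) (band (psF unR [] pr s.p) (band (psF R fx s.prog s.p)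
      (band (Nat.ble (cgF P M C fx s.prog R) s.c)
        (bcF 1 26 s.p fun pl => runF R 1 fx s.ext [pl] 1 fun regs _ => valF regs fx ih))))) l

theorem chain_sound {pr P : List ℕ} {n : ℕ} (hL : Lanes pr P n) (hn : n ≤ 2 ^ 17) {g : LL} {R : List ℕ}
    (hR : Rows g R) (β : List ℕ) (l : List St) : ∀ (fx : List ℕ),
    chainF pr P (2 ^ n - 1) (cmb 18 13) R β l fx = true → ∀ H : Subgroup LL, (∀ h ∈ H, h * g = g * h) →
      (∀ h ∈ H, fx.map (L h) = fx) → Nat.card H ≤ (l.map St.c).prod := by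
  induction l with
  | nil =>
    intro fx h H _ hfx
    have h1 := Mdl.chkU_spec fx β unR h
    have h2 : H = ⊥ := by
      rw [eq_bot_iff]
      intro g hg
      refine Subgroup.mem_bot.2 (eq_one fun k hk => ?_)
      have h3 : ∀ k < 26, 2 ^ k ∈ unR := by decide +kernel
      obtain ⟨s, hs⟩ := h1 _ (h3 k hk)
      rw [← hs, L_xc, hfx g hg]
    rw [h2, Subgroup.card_bot]
    exact le_refl 1
  | cons s l ih =>
    intro fx h H hH hfx
    have e : chainF pr P (2 ^ n - 1) (cmb 18 13) R β (s :: l) fx =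
      band (Nat.blt s.p 67108864) (band (psF unR [] pr s.p) (band (psF R fx s.prog s.p)
        (band (Nat.ble (cgF P (2 ^ n - 1) (cmb 18 13) fx s.prog R) s.c)
          (bcF 1 26 s.p fun pl => runF R 1 fx s.ext [pl] 1 fun regs _ =>
            valF regs fx (chainF pr P (2 ^ n - 1) (cmb 18 13) R β l))))) := rfl
    rw [e] at h
    obtain ⟨h1, h⟩ := band_true h
    obtain ⟨h2, h⟩ := band_true h
    obtain ⟨h3, h⟩ := band_true h
    obtain ⟨h4, h5⟩ := band_true h
    have hp : s.p < 2 ^ 26 := Nat.blt_eq.mp h1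
    have hpt : Pt pr s.p := ⟨hp, psF_spec rows_one hp h2⟩
    have hps := psF_spec hR hp h3
    have h6 := Nat.le_of_ble_eq_true h4
    rw [cgF_eq hL hn hR] at h6
    obtain ⟨regs, m, h7, -, h8⟩ := one_spec hR fx s.ext hp
    rw [h7, valF_eq, h8] at h5
    have := finite_pt pr (Ps g fx s.prog)
    have h9 := card_step H s.p (S := fun c => Pt pr c ∧ Ps g fx s.prog c) fun h hh =>
      ⟨hpt.map h, (ps_map (hH h hh) (hfx h hh) s.prog hp).2 hps⟩
    rw [List.map_cons, List.prod_cons]
    refine h9.trans (Nat.mul_le_mul h6 (ih _ h5 _ (fun h hh => hH h hh.1) fun h hh => ?_))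
    have h10 : L h s.p = s.p := (show L h s.p = L 1 s.p from hh.2).trans (L_one hp)
    have h11 := evS_map (hH h hh.1) (hfx h hh.1) s.ext [s.p] true (by simpa using hp)
    rw [show [s.p].map (L h) = [L h s.p] from rfl, h10] at h11
    have h12 : (evS (L g) fx s.ext [s.p] true).1 = (evS (L g) fx s.ext [s.p] true).1.map (L h) :=
      congrArg Prod.fst h11
    rw [List.map_append, hfx h hh.1, ← h12]

theorem cent_le {pr P : List ℕ} {n : ℕ} (hL : Lanes pr P n) (hn : n ≤ 2 ^ 17) {g : LL} {R : List ℕ}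
    (hR : Rows g R) {β : List ℕ} {l : List St} (h : chainF pr P (2 ^ n - 1) (cmb 18 13) R β l [] = true) :
    Nat.card (Subgroup.centralizer ({g} : Set LL)) ≤ (l.map St.c).prod :=
  by
  refine chain_sound hL hn hR β l [] h (Subgroup.centralizer ({g} : Set LL)) (fun k hh => ?_) fun _ _ => List.map_nil
  exact (hh g rfl).symm

/-- **not conjugate** -/
theorem not_conj {pr P : List ℕ} {n : ℕ} (hL : Lanes pr P n) (hn : n ≤ 2 ^ 17) {g g' : LL} {R R' : List ℕ}
    (hR : Rows g R) (hR' : Rows g' R') {prog : List ℕ} {p : ℕ} (hp : p < 2 ^ 26) (h1 : psF unR [] pr p = true)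
    (h2 : psF R [] prog p = true) (h3 : cgF P (2 ^ n - 1) (cmb 18 13) [] prog R' = 0) : ¬ IsConj g g' := by
  intro h
  obtain ⟨c, hc⟩ := isConj_iff.1 h
  rw [cgF_eq hL hn hR'] at h3
  have := finite_pt pr (Ps g' [] prog)
  have h4 : Pt pr p := ⟨hp, psF_spec rows_one hp h1⟩
  have h5 : c * g = g' * c := by rw [← hc]; group
  exact (Nat.card_pos_iff.2 ⟨⟨⟨L c p, h4.map c, (ps_map h5 rfl prog hp).2 (psF_spec hR hp h2)⟩⟩, this⟩).ne' h3

end Cfsg.Agent.TAB.F42.G
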