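import Cfsg.Agent.TAB.F42.G.Model

/-!
# Straight line programs on the codes and on the planes (helper47, TAB, `F₄(2)`)

An instruction `o` has the fields `o % 8` (the operation), `o / 8 % 4`, `o / 32 % 4` (the tests: the result is zero (0),
not zero (1), not tested; the value of the form), `o / 128 % 64`, `o / 8192` (the arguments).

* `evS` : the program on codes; `evS_map` : equivariance;
* `runF` : the program on planes; `runF_spec` : it computes `evS` in every lane.
-/

set_option autoImplicit false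
set_option maxRecDepth 100000

namespace Cfsg.Agent.TAB.F42.G

open Cfsg.Agent.FourTwo.Base
open Cfsg.Agent.H123.Cls
open Cfsg.Agent.Lib.BitNetSimple (force force_eq)
open Cfsg.Agent.Lib.BitNet (value)

/-! ### programs on codes -/

/-- one operation -/
def opS (f : ℕ → ℕ) (fx regs : List ℕ) (t a b : ℕ) : ℕ × Bool :=
  if t = 0 then (f (regs.getD a 0), false)
  else if t = 1 then (xc regs b, false)
  else if t = 2 then (sqc (regs.getD a 0), Qc (regs.getD a 0))
  else if t = 3 then (mulc (regs.getD a 0) (regs.getD b 0), Bc (regs.getD a 0) (regs.getD b 0))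
  else (xc fx b % 2 ^ 26, false)

/-- one test -/
def tsS (s : ℕ) (z : Bool) : Bool := if s = 0 then !z else if s = 1 then z else true

/-- the program -/
def evS (f : ℕ → ℕ) (fx : List ℕ) : List ℕ → List ℕ → Bool → List ℕ × Bool
  | [], regs, ok => (regs, ok)
  | o :: l, regs, ok =>
    evS f fx l ((opS f fx regs (o % 8) (o / 128 % 64) (o / 8192)).1 :: regs)
      (ok && tsS (o / 8 % 4) ((opS f fx regs (o % 8) (o / 128 % 64) (o / 8192)).1 != 0) &&
        tsS (o / 32 % 4) (opS f fx regs (o % 8) (o / 128 % 64) (o / 8192)).2)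

theorem evS_realised : True := by have := @evS.eq_def; trivial

theorem getD_lt {regs : List ℕ} (h : ∀ v ∈ regs, v < 2 ^ 26) (a : ℕ) : regs.getD a 0 < 2 ^ 26 := by
  rw [List.getD_eq_getElem?_getD]
  cases h1 : regs[a]? with
  | none => simp
  | some v => exact h v (List.mem_of_getElem? h1)

theorem opS_lt {f : ℕ → ℕ} (hf : ∀ c, f c < 2 ^ 26) (fx : List ℕ) {regs : List ℕ} (h : ∀ v ∈ regs, v < 2 ^ 26)
    (t a b : ℕ) : (opS f fx regs t a b).1 < 2 ^ 26 := by
  unfold opS
  split_ifs
  · exact hf _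
  · exact Mdl.xc_lt regs h b
  · exact sqc_lt _
  · exact mulc_lt _ _
  · exact Nat.mod_lt _ (by norm_num)

theorem evS_lt {f : ℕ → ℕ} (hf : ∀ c, f c < 2 ^ 26) (fx : List ℕ) : ∀ (l regs : List ℕ) (ok : Bool),
    (∀ v ∈ regs, v < 2 ^ 26) → ∀ v ∈ (evS f fx l regs ok).1, v < 2 ^ 26
  | [], _, _, h => h
  | o :: l, regs, ok, h => by
    rw [evS]
    refine evS_lt hf fx l _ _ fun v hv => ?_
    rcases List.mem_cons.1 hv with rfl | hv
    · exact opS_lt hf fx h _ _ _
    · exact h v hv

theorem L_xc (h : LL) : ∀ (l : List ℕ) (b : ℕ), L h (xc l b) = xc (l.map (L h)) b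
  | [], _ => L_zero h
  | x :: l, b => by
    rw [List.map_cons, xc, xc, L_xor, L_xc h l]
    cases b.testBit 0
    · rw [cond_false, cond_false, L_zero]
    · rfl

theorem getD_map (h : LL) (regs : List ℕ) (a : ℕ) : (regs.map (L h)).getD a 0 = L h (regs.getD a 0) := by
  rw [List.getD_eq_getElem?_getD, List.getD_eq_getElem?_getD, List.getElem?_map]
  cases regs[a]? with
  | none => exact (L_zero h).symm
  | some v => rfl

theorem opS_map {h g g' : LL} (hc : h * g = g' * h) {fx : List ℕ} (hfx : fx.map (L h) = fx) {regs : List ℕ}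
    (hr : ∀ v ∈ regs, v < 2 ^ 26) (t a b : ℕ) :
    opS (L g') fx (regs.map (L h)) t a b = (L h (opS (L g) fx regs t a b).1, (opS (L g) fx regs t a b).2) := by
  unfold opS
  split_ifs
  · rw [getD_map, ← L_mul, ← L_mul, hc]
  · rw [L_xc]
  · rw [getD_map, (pres_L h).sq _ (getD_lt hr a), (pres_L h).Q _ (getD_lt hr a)]
  · rw [getD_map, getD_map, (pres_L h).mul _ (getD_lt hr a) _ (getD_lt hr b),
      (pres_L h).B _ (getD_lt hr a) _ (getD_lt hr b)]
  · have h1 : L h (xc fx b) = xc fx b := by rw [L_xc, hfx]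
    have h2 : xc fx b < 2 ^ 26 := h1 ▸ L_lt h _
    rw [Nat.mod_eq_of_lt h2, h1]

/-- **equivariance** -/
theorem evS_map {h g g' : LL} (hc : h * g = g' * h) {fx : List ℕ} (hfx : fx.map (L h) = fx) :
    ∀ (l regs : List ℕ) (ok : Bool), (∀ v ∈ regs, v < 2 ^ 26) →
      evS (L g') fx l (regs.map (L h)) ok = ((evS (L g) fx l regs ok).1.map (L h), (evS (L g) fx l regs ok).2)
  | [], _, _, _ => rfl
  | o :: l, regs, ok, hr => by
    have h1 := opS_lt (L_lt g) fx hr (o % 8) (o / 128 % 64) (o / 8192)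
    rw [evS, evS, opS_map hc hfx hr, ← evS_map hc hfx l _ _ fun v hv => by
      rcases List.mem_cons.1 hv with rfl | hv
      · exact h1
      · exact hr v hv]
    have h2 : (L h (opS (L g) fx regs (o % 8) (o / 128 % 64) (o / 8192)).1 != 0) =
        ((opS (L g) fx regs (o % 8) (o / 128 % 64) (o / 8192)).1 != 0) := by
      rw [Bool.eq_iff_iff, bne_iff_ne, bne_iff_ne, ne_eq, ne_eq, L_eq_zero h h1]
    simp only [h2, List.map_cons]

/-! ### programs on planes -/

/-- zero planes -/
def zrP : List ℕ := [0, 0, 0, 0, 0, 0, 0, 0, 0, 0, 0, 0, 0, 0, 0, 0, 0, 0, 0, 0, 0, 0, 0, 0, 0, 0]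

theorem value_zrP (j : ℕ) : value zrP j = 0 := by simp [zrP, value]

/-- a register -/
noncomputable def gtF (l : List (List ℕ)) : ℕ → List ℕ :=
  List.rec (fun _ => zrP) (fun x _ ih n => Nat.rec x (fun m _ => ih m) n) l

theorem gtF_spec (j : ℕ) : ∀ (l : List (List ℕ)) (a : ℕ), (∀ P ∈ l, P.length = 26) →
    (gtF l a).length = 26 ∧ value (gtF l a) j = (l.map fun P => value P j).getD a 0
  | [], _, _ => ⟨rfl, value_zrP j⟩
  | P :: _, 0, h => ⟨h P List.mem_cons_self, rfl⟩
  | _ :: l, a + 1, h => gtF_spec j l a fun Q hQ => h Q (List.mem_cons_of_mem _ hQ)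

/-- a linear map on the planes -/
noncomputable def linF {α : Type} (P R : List ℕ) : (List ℕ → α) → α :=
  List.rec (fun κ => κ []) (fun r _ ih κ => fB (xF P r 0) fun y => ih fun l' => κ (y :: l')) R

theorem linF_eq {α : Type} (P : List ℕ) : ∀ (R : List ℕ) (κ : List ℕ → α), linF P R κ = κ (R.map fun r => xc P r)
  | [], κ => rfl
  | r :: R, κ => by
    show fB (xF P r 0) (fun y => linF P R fun l' => κ (y :: l')) = _
    rw [fB_eq, linF_eq P R, xF_eq, Nat.zero_xor]
    rfl

/-- the sum of two registers -/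
noncomputable def zpF {α : Type} (l : List ℕ) : List ℕ → (List ℕ → α) → α :=
  List.rec (fun _ κ => κ []) (fun x _ ih l' => List.rec (fun κ => κ [])
    (fun y l'' _ κ => fB (Nat.xor x y) fun z => ih l'' fun r => κ (z :: r)) l') l

theorem zpF_eq {α : Type} : ∀ (l l' : List ℕ) (κ : List ℕ → α), zpF l l' κ = κ (List.zipWith (· ^^^ ·) l l')
  | [], l', κ => rfl
  | x :: l, [], κ => rfl
  | x :: l, y :: l', κ => by
    show fB (Nat.xor x y) (fun z => zpF l l' fun r => κ (z :: r)) = _
    rw [fB_eq, zpF_eq l l']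
    rfl

/-- a combination of the registers -/
noncomputable def cbF {α : Type} (regs : List (List ℕ)) : ℕ → List ℕ → (List ℕ → α) → α :=
  List.rec (fun _ acc κ => κ acc) (fun P _ ih b acc κ => cnd (Nat.beq b 0) (κ acc)
    (force (Nat.shiftRight b 1) fun b' => cnd (Nat.beq (Nat.land b 1) 0) (ih b' acc κ)
      (zpF acc P fun acc' => ih b' acc' κ))) regs

theorem cbF_spec : ∀ (regs : List (List ℕ)) (b : ℕ) (acc : List ℕ), (∀ P ∈ regs, P.length = 26) → acc.length = 26 →
    ∃ lo : List ℕ, lo.length = 26 ∧ (∀ {α : Type} (κ : List ℕ → α), cbF regs b acc κ = κ lo) ∧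
      ∀ j, value lo j = value acc j ^^^ xc (regs.map fun P => value P j) b
  | [], b, acc, _, ha => ⟨acc, ha, fun κ => rfl, fun j => by simp [xc]⟩
  | P :: regs, b, acc, h, ha => by
    have e : ∀ {α : Type} (κ : List ℕ → α), cbF (P :: regs) b acc κ = cnd (Nat.beq b 0) (κ acc)
      (force (Nat.shiftRight b 1) fun b' => cnd (Nat.beq (Nat.land b 1) 0) (cbF regs b' acc κ)
        (zpF acc P fun acc' => cbF regs b' acc' κ)) := fun κ => rfl
    have hP := h P List.mem_cons_self
    have hr : ∀ Q ∈ regs, Q.length = 26 := fun Q hQ => h Q (List.mem_cons_of_mem _ hQ)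
    cases hb : Nat.beq b 0
    · rcases land_one b with ⟨h1, h2⟩ | ⟨h1, h2⟩
      · obtain ⟨lo, h3, h4, h5⟩ := cbF_spec regs (b >>> 1) acc hr ha
        refine ⟨lo, h3, fun κ => ?_, fun j => ?_⟩
        · rw [e, hb, cnd_false, force_eq, h1, cnd_true]
          exact h4 κ
        · rw [h5, List.map_cons, xc, h2, cond_false, Nat.zero_xor]
      · obtain ⟨lo, h3, h4, h5⟩ := cbF_spec regs (b >>> 1) (List.zipWith (· ^^^ ·) acc P) hr (by
          rw [List.length_zipWith, ha, hP]; rfl)
        refine ⟨lo, h3, fun κ => ?_, fun j => ?_⟩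
        · rw [e, hb, cnd_false, force_eq, h1, cnd_false, zpF_eq]
          exact h4 κ
        · rw [h5, List.map_cons, xc, h2, cond_true, value_zip _ _ _ (ha.trans hP.symm), Nat.xor_assoc]
    · refine ⟨acc, ha, fun κ => by rw [e, hb, cnd_true], fun j => ?_⟩
      rw [Nat.eq_of_beq_eq_true hb, xc_zero, Nat.xor_zero]

/-- the planes of a constant -/
noncomputable def bcF {α : Type} (M n : ℕ) : ℕ → (List ℕ → α) → α :=
  Nat.rec (fun _ κ => κ []) (fun _ ih c κ => force (Nat.shiftRight c 1) fun c' =>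
    cnd (Nat.beq (Nat.land c 1) 0) (ih c' fun l => κ (0 :: l)) (ih c' fun l => κ (M :: l))) n

theorem bcF_spec (M : ℕ) : ∀ (n c : ℕ), ∃ lo : List ℕ, lo.length = n ∧
    (∀ {α : Type} (κ : List ℕ → α), bcF M n c κ = κ lo) ∧ ∀ j, M.testBit j = true → value lo j = c % 2 ^ n
  | 0, c => ⟨[], rfl, fun κ => rfl, fun j _ => by simp [value, Nat.mod_one]⟩
  | n + 1, c => by
    have e : ∀ {α : Type} (κ : List ℕ → α), bcF M (n + 1) c κ = force (Nat.shiftRight c 1) fun c' =>
      cnd (Nat.beq (Nat.land c 1) 0) (bcF M n c' fun l => κ (0 :: l)) (bcF M n c' fun l => κ (M :: l)) :=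
      fun κ => rfl
    obtain ⟨lo, h3, h4, h5⟩ := bcF_spec M n (c >>> 1)
    have h6 : c % 2 ^ (n + 1) = c % 2 + 2 * ((c >>> 1) % 2 ^ n) := by
      rw [pow_succ', Nat.mod_mul, Nat.shiftRight_one]
    rcases land_one c with ⟨h1, h2⟩ | ⟨h1, h2⟩
    · refine ⟨0 :: lo, by simp [h3], fun κ => ?_, fun j hj => ?_⟩
      · rw [e, force_eq, h1, cnd_true]
        exact h4 _
      · rw [Nat.testBit_zero, decide_eq_false_iff_not] at h2
        rw [value, h5 j hj, h6, Nat.zero_testBit]
        simp only [Bool.toNat_false]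
        omega
    · refine ⟨M :: lo, by simp [h3], fun κ => ?_, fun j hj => ?_⟩
      · rw [e, force_eq, h1, cnd_false]
        exact h4 _
      · rw [Nat.testBit_zero, decide_eq_true_eq] at h2
        rw [value, h5 j hj, h6, hj, h2]
        rfl

/-- the lanes which are not zero -/
noncomputable def orF (l : List ℕ) : ℕ → ℕ :=
  List.rec (fun acc => acc) (fun x _ ih acc => fB (Nat.lor acc x) ih) l

theorem testBit_orF (j : ℕ) : ∀ (l : List ℕ) (acc : ℕ),
    (orF l acc).testBit j = (acc.testBit j || (value l j != 0))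
  | [], acc => by
    show acc.testBit j = _
    simp [value]
  | x :: l, acc => by
    have e : orF (x :: l) acc = fB (Nat.lor acc x) (orF l) := rfl
    rw [e, fB_eq, testBit_orF j l, value]
    show ((acc ||| x).testBit j || _) = _
    rw [Nat.testBit_or]
    have h1 : ∀ v : ℕ, (false.toNat + 2 * v != 0) = (v != 0) := fun v => by
      rw [Bool.eq_iff_iff, bne_iff_ne, bne_iff_ne, Bool.toNat_false]
      omega
    have h2 : ∀ v : ℕ, (true.toNat + 2 * v != 0) = true := fun v => by
      rw [bne_iff_ne, Bool.toNat_true]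
      omega
    cases x.testBit j
    · rw [h1, Bool.or_false]
    · rw [h2, Bool.or_true, Bool.true_or]

/-- one test on the planes -/
noncomputable def upd (m z s : ℕ) : ℕ :=
  cnd (Nat.beq s 0) (Nat.xor m (Nat.land m z)) (cnd (Nat.beq s 1) (Nat.land m z) m)

theorem testBit_upd (m z s j : ℕ) : (upd m z s).testBit j = (m.testBit j && tsS s (z.testBit j)) := by
  unfold upd tsS
  by_cases h0 : s = 0
  · subst h0
    show (m ^^^ (m &&& z)).testBit j = _
    rw [Nat.testBit_xor, Nat.testBit_and]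
    cases m.testBit j <;> cases z.testBit j <;> rfl
  · by_cases h1 : s = 1
    · subst h1
      show (m &&& z).testBit j = _
      rw [Nat.testBit_and]
      rfl
    · have e0 : Nat.beq s 0 = false := by
        cases h : Nat.beq s 0
        · rfl
        · exact absurd (Nat.eq_of_beq_eq_true h) h0
      have e1 : Nat.beq s 1 = false := by
        cases h : Nat.beq s 1
        · rfl
        · exact absurd (Nat.eq_of_beq_eq_true h) h1
      rw [e0, e1, cnd_false, cnd_false, if_neg h0, if_neg h1, Bool.and_true]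

/-- one operation on the planes -/
noncomputable def opF {α : Type} (R : List ℕ) (M : ℕ) (fx : List ℕ) (regs : List (List ℕ)) (t a b : ℕ)
    (κ : List ℕ → ℕ → α) : α :=
  cnd (Nat.beq t 0) (linF (gtF regs a) R fun lo => κ lo 0)
    (cnd (Nat.beq t 1) (cbF regs b zrP fun lo => κ lo 0)
      (cnd (Nat.beq t 2) (shF (gtF regs a) κ)
        (cnd (Nat.beq t 3) (crF (gtF regs a) (gtF regs b) κ)
          (force (xF fx b 0) fun c => bcF M 26 c fun lo => κ lo 0))))

theorem cnd_beq {α : Type} (a b : ℕ) (x y : α) : cnd (Nat.beq a b) x y = if a = b then x else y := by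
  by_cases h : a = b
  · rw [if_pos h, h, Nat.beq_refl, cnd_true]
  · rw [if_neg h]
    cases h1 : Nat.beq a b
    · rfl
    · exact absurd (Nat.eq_of_beq_eq_true h1) h

theorem opF_spec {R : List ℕ} (hR : R.length = 26) (M : ℕ) (fx : List ℕ) {regs : List (List ℕ)}
    (h : ∀ P ∈ regs, P.length = 26) (t a b : ℕ) : ∃ (lo : List ℕ) (hi : ℕ), lo.length = 26 ∧
      (∀ {α : Type} (κ : List ℕ → ℕ → α), opF R M fx regs t a b κ = κ lo hi) ∧
      ∀ j, M.testBit j = true → opS (ap R) fx (regs.map fun P => value P j) t a b = (value lo j, hi.testBit j) := by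
  have ha := (gtF_spec 0 regs a h).1
  have hb := (gtF_spec 0 regs b h).1
  by_cases h0 : t = 0
  · refine ⟨R.map fun r => xc (gtF regs a) r, 0, by rw [List.length_map, hR], fun κ => ?_, fun j _ => ?_⟩
    · rw [opF, cnd_beq, if_pos h0, linF_eq]
    · rw [opS, if_pos h0, value_lin R ha, (gtF_spec j regs a h).2, Nat.zero_testBit]
  by_cases h1 : t = 1
  · obtain ⟨lo, h3, h4, h5⟩ := cbF_spec regs b zrP h rfl
    refine ⟨lo, 0, h3, fun κ => ?_, fun j _ => ?_⟩
    · rw [opF, cnd_beq, if_neg h0, cnd_beq, if_pos h1, h4]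
    · rw [opS, if_neg h0, if_pos h1, h5, value_zrP, Nat.zero_xor, Nat.zero_testBit]
  by_cases h2 : t = 2
  · refine ⟨Tq.map fun l => bp l (gtF regs a) (gtF regs a), bp tQ (gtF regs a) (gtF regs a),
      by rw [List.length_map]; rfl, fun κ => ?_, fun j _ => ?_⟩
    · rw [opF, cnd_beq, if_neg h0, cnd_beq, if_neg h1, cnd_beq, if_pos h2, shF_eq ha]
    · rw [opS, if_neg h0, if_neg h1, if_pos h2, value_bl, testBit_bp, (gtF_spec j regs a h).2]
      rfl
  by_cases h3 : t = 3
  · refine ⟨Tm.map fun l => bp l (gtF regs a) (gtF regs b), bp tB (gtF regs a) (gtF regs b),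
      by rw [List.length_map]; rfl, fun κ => ?_, fun j _ => ?_⟩
    · rw [opF, cnd_beq, if_neg h0, cnd_beq, if_neg h1, cnd_beq, if_neg h2, cnd_beq, if_pos h3, crF_eq ha hb]
    · rw [opS, if_neg h0, if_neg h1, if_neg h2, if_pos h3, value_bl, testBit_bp, (gtF_spec j regs a h).2,
        (gtF_spec j regs b h).2]
      rfl
  · obtain ⟨lo, h4, h5, h6⟩ := bcF_spec M 26 (xc fx b)
    refine ⟨lo, 0, h4, fun κ => ?_, fun j hj => ?_⟩
    · rw [opF, cnd_beq, if_neg h0, cnd_beq, if_neg h1, cnd_beq, if_neg h2, cnd_beq, if_neg h3, force_eq, xF_eq,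
        Nat.zero_xor, h5]
    · rw [opS, if_neg h0, if_neg h1, if_neg h2, if_neg h3, h6 j hj, Nat.zero_testBit]

/-- the program on the planes -/
noncomputable def runF {α : Type} (R : List ℕ) (M : ℕ) (fx : List ℕ) (prog : List ℕ) :
    List (List ℕ) → ℕ → (List (List ℕ) → ℕ → α) → α :=
  List.rec (fun regs m κ => κ regs m) (fun o _ ih regs m κ =>
    force (Nat.mod o 8) fun t => force (Nat.mod (Nat.div o 128) 64) fun a => force (Nat.div o 8192) fun b =>
      opF R M fx regs t a b fun lo hi =>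
        fB (upd (upd m (orF lo 0) (Nat.mod (Nat.div o 8) 4)) hi (Nat.mod (Nat.div o 32) 4)) fun m' =>
          ih (lo :: regs) m' κ) prog

/-- **the planes compute the program in every lane** -/
theorem runF_spec {R : List ℕ} (hR : R.length = 26) (M : ℕ) (fx : List ℕ) : ∀ (prog : List ℕ) (regs : List (List ℕ))
    (m : ℕ), (∀ P ∈ regs, P.length = 26) → ∃ (regs' : List (List ℕ)) (m' : ℕ),
      (∀ {α : Type} (κ : List (List ℕ) → ℕ → α), runF R M fx prog regs m κ = κ regs' m') ∧
      (∀ j, m'.testBit j = true → m.testBit j = true) ∧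
      ∀ j, M.testBit j = true → evS (ap R) fx prog (regs.map fun P => value P j) (m.testBit j) =
        (regs'.map fun P => value P j, m'.testBit j)
  | [], regs, m, _ => ⟨regs, m, fun κ => rfl, fun _ h => h, fun _ _ => rfl⟩
  | o :: l, regs, m, h => by
    obtain ⟨lo, hi, h1, h2, h3⟩ := opF_spec hR M fx h (o % 8) (o / 128 % 64) (o / 8192)
    obtain ⟨regs', m', h4, h5, h6⟩ := runF_spec hR M fx l (lo :: regs)
      (upd (upd m (orF lo 0) (o / 8 % 4)) hi (o / 32 % 4)) fun P hP => by
        rcases List.mem_cons.1 hP with rfl | hP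
        · exact h1
        · exact h P hP
    refine ⟨regs', m', fun κ => ?_, fun j hj => ?_, fun j hj => ?_⟩
    · have e : runF R M fx (o :: l) regs m κ =
        force (Nat.mod o 8) fun t => force (Nat.mod (Nat.div o 128) 64) fun a => force (Nat.div o 8192) fun b =>
          opF R M fx regs t a b fun lo hi =>
            fB (upd (upd m (orF lo 0) (Nat.mod (Nat.div o 8) 4)) hi (Nat.mod (Nat.div o 32) 4)) fun m' =>
              runF R M fx l (lo :: regs) m' κ := rfl
      rw [e, force_eq, force_eq, force_eq]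
      refine (h2 _).trans ?_
      rw [fB_eq]
      exact h4 κ
    · have h7 := h5 j hj
      rw [testBit_upd, testBit_upd, Bool.and_eq_true, Bool.and_eq_true] at h7
      exact h7.1.1
    · rw [evS, h3 j hj, ← h6 j hj, testBit_upd, testBit_upd, testBit_orF, Nat.zero_testBit, Bool.false_or]
      rfl

/-! ### the rows of an element -/

/-- `R` are the rows of `g` -/
def Rows (g : LL) (R : List ℕ) : Prop := R.length = 26 ∧ ap R = L g

theorem Rows.mul {g h : LL} {A B : List ℕ} (hA : Rows g A) (hB : Rows h B) :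
    Rows (g * h) (A.map fun r => xc B r) :=
  ⟨by rw [List.length_map, hA.1], funext fun c => by rw [ap_mul A hB.1, hA.2, hB.2, L_mul]⟩

theorem rows_one : Rows 1 unR := ⟨rfl, funext fun c => (ap_unR c).trans (L_wd [] c).symm⟩

theorem rows_x (r : ℕ) : Rows (x r) (rows r) :=
  ⟨rows_len r, funext fun c => by rw [← wd_one, L_wd, apW, apW, ap_mod]⟩

/-- the rows of a word -/
noncomputable def wdF {α : Type} (w : List ℕ) : (List ℕ → α) → α :=
  List.rec (fun κ => κ unR) (fun r _ ih κ => ih fun B => mapF (fun a => xF B a 0) (rows r) κ) w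

theorem map_xF (B A : List ℕ) : (A.map fun a => xF B a 0) = A.map fun a => xc B a :=
  List.map_congr_left fun a _ => by rw [xF_eq, Nat.zero_xor]

theorem wdF_spec (w : List ℕ) : ∃ R, Rows (wd w) R ∧ ∀ {α : Type} (κ : List ℕ → α), wdF w κ = κ R := by
  induction w with
  | nil => exact ⟨unR, by rw [wd_nil]; exact rows_one, fun κ => rfl⟩
  | cons r w ih =>
    obtain ⟨B, h1, h2⟩ := ih
    refine ⟨(rows r).map fun a => xc B a, by rw [wd_cons]; exact (rows_x r).mul h1, fun κ => ?_⟩
    have e : wdF (r :: w) κ = wdF w (fun B => mapF (fun a => xF B a 0) (rows r) κ) := rfl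
    rw [e, h2, mapF_eq, map_xF]

/-- the rows of a power -/
noncomputable def pwF {α : Type} (R : List ℕ) (n : ℕ) : (List ℕ → α) → α :=
  Nat.rec (fun κ => κ unR) (fun _ ih κ => ih fun B => mapF (fun a => xF R a 0) B κ) n

theorem pwF_spec {g : LL} {R : List ℕ} (h : Rows g R) (n : ℕ) :
    ∃ S, Rows (g ^ n) S ∧ ∀ {α : Type} (κ : List ℕ → α), pwF R n κ = κ S := by
  induction n with
  | zero => exact ⟨unR, by rw [pow_zero]; exact rows_one, fun κ => rfl⟩
  | succ n ih =>
    obtain ⟨B, h1, h2⟩ := ih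
    refine ⟨B.map fun a => xc R a, by rw [pow_succ]; exact h1.mul h, fun κ => ?_⟩
    have e : pwF R (n + 1) κ = pwF R n (fun B => mapF (fun a => xF R a 0) B κ) := rfl
    rw [e, h2, mapF_eq, map_xF]

theorem Rows.eq_one {g : LL} (h : Rows g unR) : g = 1 :=
  G.eq_one fun k hk => by rw [← h.2, ap_two_pow _ hk, value_unR k hk]

end Cfsg.Agent.TAB.F42.G
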