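import Cfsg.Agent.H123.Cls.LRun

/-!
# Bit-sliced linear and bilinear maps on codes of 26 bits (helper47, TAB, `F₄(2)`)

A list of planes `P` holds the code `value P j` in the lane `j`.

* `ap R c` : the linear map with the rows `R`; `bl T c d`, `bs l c d` : bilinear maps and forms given by monomials;
* `value_lin`, `value_bl`, `testBit_bp` : the maps on the planes;
* `cnt n m` : the number of lanes of a mask; `ltF` : comparison of the lanes; `pat` : the lanes `0, 1, 2, …`.
-/

set_option autoImplicit false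

namespace Cfsg.Agent.TAB.F42.G

open Cfsg.Agent.H123.Cls
open Cfsg.Agent.Lib.BitNetSimple (force force_eq)
open Cfsg.Agent.Lib.BitNet (value)

/-- the parity of the common bits -/
def dot : ℕ → ℕ → ℕ → Bool
  | 0, _, _ => false
  | n + 1, a, b => xor (a.testBit 0 && b.testBit 0) (dot n (a >>> 1) (b >>> 1))

theorem dot_realised : True := by have := @dot.eq_def; trivial

theorem value_shift (C : ℕ) (Cs : List ℕ) (i : ℕ) : value (C :: Cs) i >>> 1 = value Cs i := by
  rw [value, Nat.shiftRight_one]
  cases C.testBit i <;> simp <;> omega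

theorem testBit_xc : ∀ (l : List ℕ) (c j : ℕ), (xc l c).testBit j = dot l.length c (value l j)
  | [], c, j => by simp [xc, dot]
  | C :: Cs, c, j => by
    rw [xc, Nat.testBit_xor, testBit_xc Cs, List.length_cons, dot, value_shift, testBit_value, List.getD_cons_zero]
    cases c.testBit 0 <;> simp

theorem dot_xor : ∀ (n a b c : ℕ), dot n a (b ^^^ c) = xor (dot n a b) (dot n a c)
  | 0, _, _, _ => rfl
  | n + 1, a, b, c => by
    rw [dot, dot, dot, Nat.shiftRight_xor_distrib, dot_xor n, Nat.testBit_xor]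
    cases a.testBit 0 <;> cases b.testBit 0 <;> cases c.testBit 0 <;> cases dot n (a >>> 1) (b >>> 1) <;>
      cases dot n (a >>> 1) (c >>> 1) <;> rfl

theorem dot_congr : ∀ (n a : ℕ) {b c : ℕ}, (∀ k < n, b.testBit k = c.testBit k) → dot n a b = dot n a c
  | 0, _, _, _, _ => rfl
  | n + 1, a, b, c, h => by
    rw [dot, dot, h 0 (Nat.succ_pos n), dot_congr n (a >>> 1) (b := b >>> 1) (c := c >>> 1) fun k hk => by
      rw [Nat.testBit_shiftRight, Nat.testBit_shiftRight, h _ (by omega)]]

theorem dot_two_pow : ∀ (n a k : ℕ), k < n → dot n a (2 ^ k) = a.testBit k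
  | 0, _, _, h => absurd h (Nat.not_lt_zero _)
  | n + 1, a, 0, _ => by
    have h0 : ∀ m x, dot m x 0 = false := fun m x => by
      have := dot_xor m x 0 0
      rw [Nat.xor_self] at this
      revert this
      cases dot m x 0 <;> simp
    have h1 : (2 ^ 0 : ℕ) >>> 1 = 0 := rfl
    have h2 : (2 ^ 0 : ℕ).testBit 0 = true := rfl
    rw [dot, h1, h2, h0]
    simp
  | n + 1, a, k + 1, h => by
    have h1 : (2 ^ (k + 1)) >>> 1 = 2 ^ k := by
      rw [Nat.shiftRight_one, pow_succ, Nat.mul_div_cancel _ (by norm_num)]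
    have h2 : (2 ^ (k + 1)).testBit 0 = false := by
      rw [Nat.testBit_two_pow]; simp
    rw [dot, h1, h2, dot_two_pow n _ k (by omega), Nat.testBit_shiftRight, add_comm]
    simp

/-- the code with the given bits -/
def code : List Bool → ℕ
  | [] => 0
  | b :: l => b.toNat + 2 * code l

theorem code_realised : True := by have := @code.eq_def; trivial

theorem value_eq : ∀ (P : List ℕ) (j : ℕ), value P j = code (P.map fun a => a.testBit j)
  | [], _ => rfl
  | a :: P, j => by rw [value, List.map_cons, code, value_eq P]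

theorem testBit_code : ∀ (l : List Bool) (k : ℕ), (code l).testBit k = l.getD k false
  | [], k => by simp [code]
  | b :: l, 0 => by
    rw [code, List.getD_cons_zero, Nat.testBit_zero]
    cases b <;> simp <;> omega
  | b :: l, k + 1 => by
    rw [code, List.getD_cons_succ, ← testBit_code l k, Nat.testBit_succ]
    congr 1
    cases b <;> simp <;> omega

theorem code_lt : ∀ l : List Bool, code l < 2 ^ l.length
  | [] => by simp [code]
  | b :: l => by
    have := code_lt l
    rw [code, List.length_cons, pow_succ]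
    cases b <;> simp <;> omega

theorem code_xor {α : Type} (l : List α) (f g : α → Bool) :
    code (l.map fun x => xor (f x) (g x)) = code (l.map f) ^^^ code (l.map g) := by
  apply Nat.eq_of_testBit_eq
  intro k
  rw [Nat.testBit_xor, testBit_code, testBit_code, testBit_code]
  simp only [List.getD_eq_getElem?_getD, List.getElem?_map]
  cases l[k]? <;> simp

/-! ### linear maps -/

/-- the linear map with the rows `R` -/
def ap (R : List ℕ) (c : ℕ) : ℕ := code (R.map fun r => dot 26 r c)

theorem ap_xor (R : List ℕ) (a b : ℕ) : ap R (a ^^^ b) = ap R a ^^^ ap R b := by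
  unfold ap
  rw [← code_xor]
  exact congrArg code (List.map_congr_left fun r _ => dot_xor 26 r a b)

theorem ap_zero (R : List ℕ) : ap R 0 = 0 := by
  have := ap_xor R 0 0
  rwa [Nat.xor_self, Nat.xor_self] at this

theorem ap_lt {R : List ℕ} (h : R.length = 26) (c : ℕ) : ap R c < 2 ^ 26 := by
  have := code_lt (R.map fun r => dot 26 r c)
  rwa [List.length_map, h] at this

theorem ap_mod (R : List ℕ) (c : ℕ) : ap R (c % 2 ^ 26) = ap R c :=
  congrArg code (List.map_congr_left fun r _ => dot_congr 26 r fun k hk => by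
    rw [Nat.testBit_mod_two_pow]; simp [hk])

theorem value_lin (R : List ℕ) {P : List ℕ} (hP : P.length = 26) (j : ℕ) :
    value (R.map fun r => xc P r) j = ap R (value P j) := by
  rw [value_eq, List.map_map]
  exact congrArg code (List.map_congr_left fun r _ => by
    show (xc P r).testBit j = _
    rw [testBit_xc, hP])

theorem ap_two_pow (R : List ℕ) {k : ℕ} (hk : k < 26) : ap R (2 ^ k) = value R k := by
  rw [value_eq]
  exact congrArg code (List.map_congr_left fun r _ => dot_two_pow 26 r k hk)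

/-- additive maps which agree on the unit codes -/
theorem add_ext {f g : ℕ → ℕ} (hf : ∀ a b, f (a ^^^ b) = f a ^^^ f b) (hg : ∀ a b, g (a ^^^ b) = g a ^^^ g b)
    {n : ℕ} (h : ∀ k < n, f (2 ^ k) = g (2 ^ k)) : ∀ c < 2 ^ n, f c = g c := by
  refine xor_ind (fun c => f c = g c) ?_ (fun a b ha hb => by rw [hf, hg, ha, hb]) n h
  have h1 := hf 0 0
  have h2 := hg 0 0
  rw [Nat.xor_self, Nat.xor_self] at h1 h2
  rw [h1, h2]

theorem ap_mul (A : List ℕ) {B : List ℕ} (hB : B.length = 26) (c : ℕ) :
    ap (A.map fun r => xc B r) c = ap A (ap B c) := by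
  rw [← ap_mod, ← ap_mod B]
  refine add_ext (f := fun c => ap (A.map fun r => xc B r) c) (g := fun c => ap A (ap B c)) (ap_xor _)
    (fun a b => by rw [ap_xor, ap_xor]) (n := 26) (fun k hk => ?_) _ (Nat.mod_lt _ (by norm_num))
  rw [ap_two_pow _ hk, ap_two_pow _ hk, value_lin A hB]

/-- the rows of the identity -/
def unR : List ℕ := [1, 2, 4, 8, 16, 32, 64, 128, 256, 512, 1024, 2048, 4096, 8192, 16384, 32768, 65536, 131072,
  262144, 524288, 1048576, 2097152, 4194304, 8388608, 16777216, 33554432]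

theorem value_unR : ∀ k < 26, value unR k = 2 ^ k := by decide +kernel

theorem ap_unR (c : ℕ) : ap unR c = c % 2 ^ 26 := by
  rw [← ap_mod]
  exact add_ext (f := fun c => ap unR c) (g := fun c => c) (ap_xor _) (fun _ _ => rfl) (n := 26)
    (fun k hk => by rw [ap_two_pow _ hk, value_unR k hk]) _ (Nat.mod_lt _ (by norm_num))

/-! ### bilinear maps -/

/-- a bilinear form -/
def bs (l : List (ℕ × ℕ)) (c d : ℕ) : Bool :=
  l.foldr (fun p acc => xor (c.testBit p.1 && d.testBit p.2) acc) false

/-- a bilinear map -/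
def bl (T : List (List (ℕ × ℕ))) (c d : ℕ) : ℕ := code (T.map fun l => bs l c d)

/-- a bilinear form on the planes -/
def bp (l : List (ℕ × ℕ)) (P Q : List ℕ) : ℕ :=
  l.foldr (fun p acc => Nat.xor (Nat.land (P.getD p.1 0) (Q.getD p.2 0)) acc) 0

theorem testBit_bp (P Q : List ℕ) (j : ℕ) : ∀ l : List (ℕ × ℕ),
    (bp l P Q).testBit j = bs l (value P j) (value Q j)
  | [] => by simp [bp, bs]
  | p :: l => by
    have e1 : bp (p :: l) P Q = (P.getD p.1 0 &&& Q.getD p.2 0) ^^^ bp l P Q := rfl
    have e2 : bs (p :: l) (value P j) (value Q j) =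
      xor ((value P j).testBit p.1 && (value Q j).testBit p.2) (bs l (value P j) (value Q j)) := rfl
    rw [e1, e2, Nat.testBit_xor, Nat.testBit_and, testBit_bp P Q j l, testBit_value, testBit_value]

theorem value_bl (T : List (List (ℕ × ℕ))) (P Q : List ℕ) (j : ℕ) :
    value (T.map fun l => bp l P Q) j = bl T (value P j) (value Q j) := by
  rw [value_eq, List.map_map]
  exact congrArg code (List.map_congr_left fun l _ => testBit_bp P Q j l)

theorem bs_xor_left (a b d : ℕ) : ∀ l : List (ℕ × ℕ), bs l (a ^^^ b) d = xor (bs l a d) (bs l b d)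
  | [] => rfl
  | p :: l => by
    show xor ((a ^^^ b).testBit p.1 && d.testBit p.2) (bs l (a ^^^ b) d) =
      xor (xor (a.testBit p.1 && d.testBit p.2) (bs l a d)) (xor (b.testBit p.1 && d.testBit p.2) (bs l b d))
    rw [bs_xor_left a b d l, Nat.testBit_xor]
    cases a.testBit p.1 <;> cases b.testBit p.1 <;> cases d.testBit p.2 <;> cases bs l a d <;> cases bs l b d <;> rfl

theorem bs_xor_right (c a b : ℕ) : ∀ l : List (ℕ × ℕ), bs l c (a ^^^ b) = xor (bs l c a) (bs l c b)
  | [] => rfl
  | p :: l => by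
    show xor (c.testBit p.1 && (a ^^^ b).testBit p.2) (bs l c (a ^^^ b)) =
      xor (xor (c.testBit p.1 && a.testBit p.2) (bs l c a)) (xor (c.testBit p.1 && b.testBit p.2) (bs l c b))
    rw [bs_xor_right c a b l, Nat.testBit_xor]
    cases a.testBit p.2 <;> cases b.testBit p.2 <;> cases c.testBit p.1 <;> cases bs l c a <;> cases bs l c b <;> rfl

theorem bs_mod (c d : ℕ) : ∀ l : List (ℕ × ℕ), (∀ p ∈ l, p.1 < 26 ∧ p.2 < 26) →
    bs l (c % 2 ^ 26) (d % 2 ^ 26) = bs l c d
  | [], _ => rfl
  | p :: l, h => by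
    show xor ((c % 2 ^ 26).testBit p.1 && (d % 2 ^ 26).testBit p.2) (bs l (c % 2 ^ 26) (d % 2 ^ 26)) =
      xor (c.testBit p.1 && d.testBit p.2) (bs l c d)
    rw [bs_mod c d l fun q hq => h q (List.mem_cons_of_mem _ hq), Nat.testBit_mod_two_pow, Nat.testBit_mod_two_pow]
    simp [(h p List.mem_cons_self).1, (h p List.mem_cons_self).2]

theorem bl_xor_left (T : List (List (ℕ × ℕ))) (a b d : ℕ) : bl T (a ^^^ b) d = bl T a d ^^^ bl T b d := by
  unfold bl
  rw [← code_xor]
  exact congrArg code (List.map_congr_left fun l _ => bs_xor_left a b d l)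

theorem bl_xor_right (T : List (List (ℕ × ℕ))) (c a b : ℕ) : bl T c (a ^^^ b) = bl T c a ^^^ bl T c b := by
  unfold bl
  rw [← code_xor]
  exact congrArg code (List.map_congr_left fun l _ => bs_xor_right c a b l)

theorem bl_mod {T : List (List (ℕ × ℕ))} (h : ∀ l ∈ T, ∀ p ∈ l, p.1 < 26 ∧ p.2 < 26) (c d : ℕ) :
    bl T (c % 2 ^ 26) (d % 2 ^ 26) = bl T c d :=
  congrArg code (List.map_congr_left fun l hl => bs_mod c d l (h l hl))

theorem bl_lt {T : List (List (ℕ × ℕ))} {n : ℕ} (h : T.length = n) (c d : ℕ) : bl T c d < 2 ^ n := by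
  have := code_lt (T.map fun l => bs l c d)
  rwa [List.length_map, h] at this

/-- bi-additive maps which agree on the unit codes -/
theorem biadd_ext {f g : ℕ → ℕ → ℕ} (hf : ∀ a b c, f (a ^^^ b) c = f a c ^^^ f b c)
    (hf' : ∀ a b c, f c (a ^^^ b) = f c a ^^^ f c b) (hg : ∀ a b c, g (a ^^^ b) c = g a c ^^^ g b c)
    (hg' : ∀ a b c, g c (a ^^^ b) = g c a ^^^ g c b) {n : ℕ}
    (h : ∀ i < n, ∀ k < n, f (2 ^ i) (2 ^ k) = g (2 ^ i) (2 ^ k)) : ∀ c < 2 ^ n, ∀ d < 2 ^ n, f c d = g c d :=
  fun c hc d hd => add_ext (f := fun c => f c d) (g := fun c => g c d) (fun a b => hf a b d) (fun a b => hg a b d)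
    (fun i hi => add_ext (f := f (2 ^ i)) (g := g (2 ^ i)) (fun a b => hf' a b _) (fun a b => hg' a b _)
      (h i hi) d hd) c hc

/-! ### counting -/

/-- the number of lanes of a mask -/
def cnt (n m : ℕ) : ℕ := ((Finset.range n).filter fun j => m.testBit j = true).card

theorem cnt_eq (n m : ℕ) : cnt n m = ∑ i ∈ Finset.range n, (m.testBit i).toNat := by
  rw [cnt, Finset.card_filter]
  refine Finset.sum_congr rfl fun i _ => ?_
  cases m.testBit i <;> rfl

theorem popS_cnt {w k n m : ℕ} (hw : 0 < w) (hk : n ≤ w * 2 ^ k) (hn : n < 2 ^ w - 1)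
    (hm : ∀ i, m.testBit i = true → i < n) : popS w (cmb w k) m = cnt n m := by
  have e : ∑ i ∈ Finset.range (w * 2 ^ k), (m.testBit i).toNat = cnt n m := by
    rw [cnt_eq]
    symm
    refine Finset.sum_subset (Finset.range_subset_range.2 hk) fun i _ hi => ?_
    cases h2 : m.testBit i
    · rfl
    · exact absurd (Finset.mem_range.2 (hm i h2)) hi
  have h1 : cnt n m ≤ n := (Finset.card_filter_le _ _).trans (Finset.card_range n).le
  rw [popS_eq hw (by rw [e]; omega), e]

/-- comparison of the lanes -/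
noncomputable def ltF (P : List ℕ) : List ℕ → ℕ → ℕ :=
  List.rec (fun _ acc => acc) (fun a _ ih Q => List.rec (fun acc => acc)
    (fun b Q' _ acc => fB (Nat.xor a b) fun x =>
      fB (Nat.lor (Nat.land x b) (Nat.xor acc (Nat.land acc x))) fun acc' => ih Q' acc') Q) P

theorem testBit_ltF (j : ℕ) : ∀ (P Q : List ℕ) (acc : ℕ), P.length = Q.length →
    ((ltF P Q acc).testBit j = true ↔
      value P j < value Q j ∨ (value P j = value Q j ∧ acc.testBit j = true))
  | [], [], acc, _ => by
    show acc.testBit j = true ↔ _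
    simp [value]
  | [], _ :: _, _, h => by simp at h
  | _ :: _, [], _, h => by simp at h
  | a :: P, b :: Q, acc, h => by
    have e : ltF (a :: P) (b :: Q) acc = fB (Nat.xor a b) fun x =>
      fB (Nat.lor (Nat.land x b) (Nat.xor acc (Nat.land acc x))) fun acc' => ltF P Q acc' := rfl
    rw [e, fB_eq, fB_eq, testBit_ltF j P Q _ (by simpa using h), value, value]
    show _ ∨ (_ ∧ ((((a ^^^ b) &&& b) ||| (acc ^^^ (acc &&& (a ^^^ b)))).testBit j = true)) ↔ _
    rw [Nat.testBit_or, Nat.testBit_and, Nat.testBit_xor, Nat.testBit_xor, Nat.testBit_and, Nat.testBit_xor]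
    cases a.testBit j <;> cases b.testBit j <;> cases acc.testBit j <;> simp <;> omega

end Cfsg.Agent.TAB.F42.G
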