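import Cfsg.Agent.TAB.F42.G.Tb
import Cfsg.Agent.TAB.Eng.Chk
import Cfsg.Agent.H123.Cls.LCover
import Cfsg.Agent.FourTwo.Base
import Cfsg.Agent.FourTwo.RankInv
import Cfsg.Agent.S1054

/-!
# `F₄(2)` acts on the codes of 26 bits (helper47, TAB)

`L g c` : the action on the ideal of the adjoint module spanned by the short root vectors; it is additive, faithful,
and preserves the square map `sqc`, the product `mulc` and the forms `Qc`, `Bc`.
-/

set_option autoImplicit false
set_option maxRecDepth 100000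

namespace Cfsg.Agent.TAB.F42.G

open Cfsg.Lie Cfsg.Agent.FourTwo.Base Cfsg.Agent.FourTwo.RankInv
open Cfsg.Agent.ChevalleyStructure.TwF4.Bits Cfsg.Agent.ChevalleyStructure.TwF4.Tables
open Cfsg.Agent.H123.Cls
open Cfsg.Agent.TAB.Eng (allL allL_spec)
open Cfsg.Agent.Lib.BitNet (value)
open scoped Matrix

/-! ### the invariant maps -/

/-- the square map -/
def sqc (c : ℕ) : ℕ := bl Tq c c

/-- the product -/
def mulc (c d : ℕ) : ℕ := bl Tm c d

/-- the quadratic form -/
def Qc (c : ℕ) : Bool := bs tQ c c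

/-- the bilinear form -/
def Bc (c d : ℕ) : Bool := bs tB c d

theorem Tq_lt : ∀ l ∈ Tq, ∀ p ∈ l, p.1 < 26 ∧ p.2 < 26 := by decide +kernel
theorem Tm_lt : ∀ l ∈ Tm, ∀ p ∈ l, p.1 < 26 ∧ p.2 < 26 := by decide +kernel
theorem tQ_lt : ∀ p ∈ tQ, p.1 < 26 ∧ p.2 < 26 := by decide +kernel
theorem tB_lt : ∀ p ∈ tB, p.1 < 26 ∧ p.2 < 26 := by decide +kernel

theorem sqc_lt (c : ℕ) : sqc c < 2 ^ 26 := bl_lt (n := 26) rfl c c
theorem mulc_lt (c d : ℕ) : mulc c d < 2 ^ 26 := bl_lt (n := 26) rfl c d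

theorem value_PA : ∀ i < 26, ∀ k < 26, value PA (26 * i + k) = 2 ^ i ∧ value PB (26 * i + k) = 2 ^ k := by
  decide +kernel

theorem value_zip : ∀ (P Q : List ℕ) (j : ℕ), P.length = Q.length →
    value (List.zipWith (· ^^^ ·) P Q) j = value P j ^^^ value Q j := by
  intro P Q j h
  apply Nat.eq_of_testBit_eq
  intro k
  rw [Nat.testBit_xor, testBit_value, testBit_value, testBit_value, ← Nat.testBit_xor]
  congr 1
  simp only [List.getD_eq_getElem?_getD, List.getElem?_zipWith]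
  by_cases hk : k < P.length
  · rw [List.getElem?_eq_getElem hk, List.getElem?_eq_getElem (h ▸ hk)]
    rfl
  · rw [List.getElem?_eq_none (not_lt.1 hk), List.getElem?_eq_none (h ▸ not_lt.1 hk)]
    rfl

theorem polar_chk (T T' : List (List (ℕ × ℕ)))
    (h : eqL (T'.map fun l => bp l PA PB)
      (List.zipWith (· ^^^ ·) (T.map fun l => bp l PA PB) (T.map fun l => bp l PB PA)) = true) :
    ∀ c < 2 ^ 26, ∀ d < 2 ^ 26, bl T' c d = bl T c d ^^^ bl T d c := by
  refine biadd_ext (f := bl T') (g := fun c d => bl T c d ^^^ bl T d c) (bl_xor_left _)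
    (fun a b c => bl_xor_right _ c a b) (fun a b c => ?_) (fun a b c => ?_) fun i hi k hk => ?_
  · rw [bl_xor_left, bl_xor_right]
    ac_rfl
  · rw [bl_xor_left, bl_xor_right]
    ac_rfl
  · have h1 := congrArg (fun P => value P (26 * i + k)) (eqL_eq h)
    rw [value_zip _ _ _ (by simp), value_bl, value_bl, value_bl, (value_PA i hi k hk).1, (value_PA i hi k hk).2] at h1
    exact h1

theorem quad_xor {T T' : List (List (ℕ × ℕ))}
    (h : ∀ c < 2 ^ 26, ∀ d < 2 ^ 26, bl T' c d = bl T c d ^^^ bl T d c) {c d : ℕ} (hc : c < 2 ^ 26) (hd : d < 2 ^ 26) :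
    bl T (c ^^^ d) (c ^^^ d) = bl T c c ^^^ bl T d d ^^^ bl T' c d := by
  rw [h c hc d hd, bl_xor_left, bl_xor_right, bl_xor_right]
  ac_rfl

theorem polar_m : ∀ c < 2 ^ 26, ∀ d < 2 ^ 26, bl Tm c d = bl Tq c d ^^^ bl Tq d c :=
  polar_chk _ _ (by decide +kernel)

theorem polar_B : ∀ c < 2 ^ 26, ∀ d < 2 ^ 26, bl [tB] c d = bl [tQ] c d ^^^ bl [tQ] d c :=
  polar_chk _ _ (by decide +kernel)

theorem bl_one {l l' : List (ℕ × ℕ)} {c d c' d' : ℕ} (h : bl [l] c d = bl [l'] c' d') : bs l c d = bs l' c' d' := by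
  have h1 : (bs l c d).toNat + 2 * 0 = (bs l' c' d').toNat + 2 * 0 := h
  revert h1
  cases bs l c d <;> cases bs l' c' d' <;> simp

theorem Bc_comm {c d : ℕ} (hc : c < 2 ^ 26) (hd : d < 2 ^ 26) : Bc c d = Bc d c :=
  bl_one (by rw [polar_B c hc d hd, polar_B d hd c hc, Nat.xor_comm])

theorem mulc_comm {c d : ℕ} (hc : c < 2 ^ 26) (hd : d < 2 ^ 26) : mulc c d = mulc d c := by
  unfold mulc
  rw [polar_m c hc d hd, polar_m d hd c hc, Nat.xor_comm]

/-- a linear map preserves the structure -/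
structure Pres (f : ℕ → ℕ) : Prop where
  sq : ∀ c < 2 ^ 26, sqc (f c) = f (sqc c)
  mul : ∀ c < 2 ^ 26, ∀ d < 2 ^ 26, mulc (f c) (f d) = f (mulc c d)
  Q : ∀ c < 2 ^ 26, Qc (f c) = Qc c
  B : ∀ c < 2 ^ 26, ∀ d < 2 ^ 26, Bc (f c) (f d) = Bc c d

/-- the check of the invariance -/
noncomputable def presB (R : List ℕ) : Bool :=
  eqL (Tm.map fun l => bp l (R.map fun r => xc PA r) (R.map fun r => xc PB r))
    (R.map fun r => xc (Tm.map fun l => bp l PA PB) r) &&
  eqL ([tB].map fun l => bp l (R.map fun r => xc PA r) (R.map fun r => xc PB r)) ([tB].map fun l => bp l PA PB) &&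
  eqL (Tq.map fun l => bp l R R) (R.map fun r => xc (Tq.map fun l => bp l unR unR) r) &&
  eqL ([tQ].map fun l => bp l R R) ([tQ].map fun l => bp l unR unR)

theorem quad_ext {f g : ℕ → ℕ} {β : ℕ → ℕ → ℕ}
    (hf : ∀ a < 2 ^ 26, ∀ b < 2 ^ 26, f (a ^^^ b) = f a ^^^ f b ^^^ β a b)
    (hg : ∀ a < 2 ^ 26, ∀ b < 2 ^ 26, g (a ^^^ b) = g a ^^^ g b ^^^ β a b) (h0 : f 0 = g 0)
    (h : ∀ k < 26, f (2 ^ k) = g (2 ^ k)) : ∀ c < 2 ^ 26, f c = g c := fun c hc =>
  (xor_ind (fun c => c < 2 ^ 26 ∧ f c = g c) ⟨by norm_num, h0⟩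
    (fun a b ha hb => ⟨Nat.xor_lt_two_pow ha.1 hb.1, by rw [hf a ha.1 b hb.1, hg a ha.1 b hb.1, ha.2, hb.2]⟩) 26
    (fun k hk => ⟨Nat.pow_lt_pow_right (by norm_num) hk, h k hk⟩) c hc).2

theorem bl_zero (T : List (List (ℕ × ℕ))) (d : ℕ) : bl T 0 d = 0 := by
  have := bl_xor_left T 0 0 d
  rwa [Nat.xor_self, Nat.xor_self] at this

theorem pres_of {R : List ℕ} (hl : R.length = 26) (h : presB R = true) : Pres (ap R) := by
  simp only [presB, Bool.and_eq_true] at h
  obtain ⟨⟨⟨h1, h2⟩, h3⟩, h4⟩ := h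
  have hm : ∀ c < 2 ^ 26, ∀ d < 2 ^ 26, bl Tm (ap R c) (ap R d) = ap R (bl Tm c d) := by
    refine biadd_ext (f := fun c d => bl Tm (ap R c) (ap R d)) (g := fun c d => ap R (bl Tm c d))
      (fun a b c => by rw [ap_xor, bl_xor_left]) (fun a b c => by rw [ap_xor, bl_xor_right])
      (fun a b c => by rw [bl_xor_left, ap_xor]) (fun a b c => by rw [bl_xor_right, ap_xor]) fun i hi k hk => ?_
    have h5 := congrArg (fun P => value P (26 * i + k)) (eqL_eq h1)
    rw [value_bl, value_lin R (P := PA) rfl, value_lin R (P := PB) rfl, value_lin R (by rw [List.length_map]; rfl),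
      value_bl, (value_PA i hi k hk).1, (value_PA i hi k hk).2] at h5
    exact h5
  have hb : ∀ c < 2 ^ 26, ∀ d < 2 ^ 26, bl [tB] (ap R c) (ap R d) = bl [tB] c d := by
    refine biadd_ext (f := fun c d => bl [tB] (ap R c) (ap R d)) (g := fun c d => bl [tB] c d)
      (fun a b c => by rw [ap_xor, bl_xor_left]) (fun a b c => by rw [ap_xor, bl_xor_right])
      (fun a b c => by rw [bl_xor_left]) (fun a b c => by rw [bl_xor_right]) fun i hi k hk => ?_
    have h5 := congrArg (fun P => value P (26 * i + k)) (eqL_eq h2)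
    rw [value_bl, value_lin R (P := PA) rfl, value_lin R (P := PB) rfl, value_bl, (value_PA i hi k hk).1,
      (value_PA i hi k hk).2] at h5
    exact h5
  refine ⟨?_, hm, fun c hc => bl_one ?_, fun c hc d hd => bl_one (hb c hc d hd)⟩
  · refine quad_ext (f := fun c => bl Tq (ap R c) (ap R c)) (g := fun c => ap R (bl Tq c c))
      (β := fun a b => ap R (bl Tm a b)) (fun a ha b hb => ?_) (fun a ha b hb => ?_) ?_ fun k hk => ?_
    · rw [ap_xor, quad_xor polar_m (ap_lt hl a) (ap_lt hl b), hm a ha b hb]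
    · rw [quad_xor polar_m ha hb, ap_xor, ap_xor]
    · rw [ap_zero, bl_zero, ap_zero]
    · have h5 := congrArg (fun P => value P k) (eqL_eq h3)
      rw [value_bl, value_lin R (by rw [List.length_map]; rfl), value_bl, value_unR k hk, ← ap_two_pow R hk] at h5
      exact h5
  · refine quad_ext (f := fun c => bl [tQ] (ap R c) (ap R c)) (g := fun c => bl [tQ] c c)
      (β := fun a b => bl [tB] a b) (fun a ha b hb' => ?_) (fun a ha b hb' => ?_) ?_ (fun k hk => ?_) c hc
    · rw [ap_xor, quad_xor polar_B (ap_lt hl a) (ap_lt hl b), hb a ha b hb']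
    · rw [quad_xor polar_B ha hb']
    · rw [ap_zero]
    · have h5 := congrArg (fun P => value P k) (eqL_eq h4)
      rw [value_bl, value_bl, value_unR k hk, ← ap_two_pow R hk] at h5
      exact h5

theorem rows_chk : allL (fun r => Nat.beq (rows r).length 26 && presB (rows r)) (List.range 49) = true := by
  decide +kernel

theorem rows_ge {r : ℕ} (h : 48 ≤ r) : rows r = unR :=
  List.getD_eq_default _ _ (show rowsT.length ≤ r from h)

theorem rows_spec (r : ℕ) : (rows r).length = 26 ∧ presB (rows r) = true := by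
  have h : ∀ r < 49, (rows r).length = 26 ∧ presB (rows r) = true := fun r hr => by
    have := allL_spec rows_chk r (List.mem_range.2 hr)
    rw [Bool.and_eq_true] at this
    exact ⟨Nat.eq_of_beq_eq_true this.1, this.2⟩
  by_cases hr : r < 49
  · exact h r hr
  · rw [rows_ge (by omega), ← rows_ge (le_refl 48)]
    exact h 48 (by norm_num)

theorem rows_len (r : ℕ) : (rows r).length = 26 := (rows_spec r).1

/-! ### words -/

/-- the action of a word -/
def apW : List ℕ → ℕ → ℕ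
  | [], c => c % 2 ^ 26
  | r :: w, c => ap (rows r) (apW w c)

theorem apW_realised : True := by have := @apW.eq_def; trivial

theorem apW_lt : ∀ (w : List ℕ) (c : ℕ), apW w c < 2 ^ 26
  | [], c => Nat.mod_lt _ (by norm_num)
  | r :: _, _ => ap_lt (rows_len r) _

theorem apW_xor : ∀ (w : List ℕ) (a b : ℕ), apW w (a ^^^ b) = apW w a ^^^ apW w b
  | [], _, _ => Nat.xor_mod_two_pow
  | r :: w, a, b => by rw [apW, apW, apW, apW_xor w, ap_xor]

theorem apW_mod : ∀ (w : List ℕ) (c : ℕ), apW w (c % 2 ^ 26) = apW w c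
  | [], c => Nat.mod_mod _ _
  | r :: w, c => by rw [apW, apW, apW_mod w]

theorem apW_append : ∀ (w w' : List ℕ) (c : ℕ), apW (w ++ w') c = apW w (apW w' c)
  | [], w', c => (Nat.mod_eq_of_lt (apW_lt w' c)).symm
  | r :: w, w', c => by rw [List.cons_append, apW, apW, apW_append w]

theorem pres_apW : ∀ w : List ℕ, Pres (apW w)
  | [] => ⟨fun c hc => by rw [apW, apW, Nat.mod_eq_of_lt hc, Nat.mod_eq_of_lt (sqc_lt c)],
      fun c hc d hd => by rw [apW, apW, apW, Nat.mod_eq_of_lt hc, Nat.mod_eq_of_lt hd, Nat.mod_eq_of_lt (mulc_lt c d)],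
      fun c hc => by rw [apW, Nat.mod_eq_of_lt hc],
      fun c hc d hd => by rw [apW, apW, Nat.mod_eq_of_lt hc, Nat.mod_eq_of_lt hd]⟩
  | r :: w => by
    have h1 := pres_of (rows_len r) (rows_spec r).2
    have h2 := pres_apW w
    exact ⟨fun c hc => by rw [apW, apW, h1.sq _ (apW_lt w c), h2.sq c hc],
      fun c hc d hd => by rw [apW, apW, apW, h1.mul _ (apW_lt w c) _ (apW_lt w d), h2.mul c hc d hd],
      fun c hc => by rw [apW, h1.Q _ (apW_lt w c), h2.Q c hc],
      fun c hc d hd => by rw [apW, apW, h1.B _ (apW_lt w c) _ (apW_lt w d), h2.B c hc d hd]⟩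

/-! ### the adjoint module -/

/-- the vector of a code -/
def dec (c : ℕ) : chevF4.Idx → ZMod 2 := vec (ZMod 2) (xc emb c)

theorem dec_xor (a b : ℕ) : dec (a ^^^ b) = dec a + dec b := by
  unfold dec
  rw [xc_xor, vec_xor]

theorem dec_inj {a b : ℕ} (ha : a < 2 ^ 26) (hb : b < 2 ^ 26) (h : dec a = dec b) : a = b := by
  have h1 : ∀ c < 2 ^ 26, xc prj (xc emb c) = c :=
    add_ext (f := fun c => xc prj (xc emb c)) (g := fun c => c) (fun a b => by rw [xc_xor, xc_xor]) (fun _ _ => rfl)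
      (n := 26) (by decide +kernel)
  have h2 : ∀ c, xc emb c < 2 ^ 52 := Mdl.xc_lt emb (by decide +kernel)
  have h3 : xc emb a = xc emb b := by
    apply Nat.eq_of_testBit_eq
    intro n
    by_cases hn : n < 52
    · obtain ⟨j, rfl⟩ := posOK.surj n hn
      have h4 : (if (xc emb a).testBit (pos j) then (1 : ZMod 2) else 0) =
        if (xc emb b).testBit (pos j) then 1 else 0 := congrFun h j
      revert h4
      cases (xc emb a).testBit (pos j) <;> cases (xc emb b).testBit (pos j) <;> simp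
    · have h4 : (2 : ℕ) ^ 52 ≤ 2 ^ n := Nat.pow_le_pow_right (by norm_num) (not_lt.1 hn)
      rw [Nat.testBit_lt_two_pow ((h2 a).trans_le h4), Nat.testBit_lt_two_pow ((h2 b).trans_le h4)]
  rw [← h1 a ha, h3, h1 b hb]

/-- a column of a packed matrix -/
def colM (M p : ℕ) : ℕ := code ((List.range 52).map fun i => M.testBit (52 * i + p))

theorem sem_col (M : ℕ) {p : ℕ} (hp : p < 52) :
    sem pos (ZMod 2) M *ᵥ vec (ZMod 2) (2 ^ p) = vec (ZMod 2) (colM M p) := by
  obtain ⟨j, rfl⟩ := posOK.surj p hp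
  funext i
  have h1 : vec (ZMod 2) (2 ^ pos j) = Pi.single j 1 := by
    funext k
    unfold vec
    rw [Nat.testBit_two_pow]
    by_cases hk : k = j
    · subst hk; simp
    · have : pos j ≠ pos k := fun h => hk (posOK.inj h).symm
      simp [hk, this]
  rw [h1, Matrix.mulVec_single_one]
  show sem pos (ZMod 2) M i j = _
  rw [sem_apply]
  unfold vec colM
  rw [testBit_code, List.getD_eq_getElem _ _ (by simpa using posOK.lt i)]
  simp

theorem col_chk : allL (fun r => fB (wordM [r]) fun M => allL (fun k =>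
    Nat.beq (colM M (posI.getD k 0)) (xc emb (value (rows r) k))) (List.range 26)) (List.range 48) = true := by
  decide +kernel

theorem x_dec (r : ℕ) {c : ℕ} (hc : c < 2 ^ 26) : chevF4.x (ZMod 2) r 1 *ᵥ dec c = dec (ap (rows r) c) := by
  by_cases hr : r < 48
  · refine xor_ind (fun c => chevF4.x (ZMod 2) r 1 *ᵥ dec c = dec (ap (rows r) c)) ?_ (fun a b ha hb => ?_) 26
      (fun k hk => ?_) c hc
    · rw [ap_zero]
      unfold dec
      rw [xc_zero, vec_zero, Matrix.mulVec_zero]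
    · rw [ap_xor, dec_xor, dec_xor, Matrix.mulVec_add, ha, hb]
    · have h1 := allL_spec col_chk r (List.mem_range.2 hr)
      rw [fB_eq] at h1
      have h2 := Nat.eq_of_beq_eq_true (allL_spec h1 k (List.mem_range.2 hk))
      have h3 : ∀ k < 26, emb.getD k 0 = 2 ^ posI.getD k 0 ∧ posI.getD k 0 < 52 := by decide +kernel
      have h4 : chevF4.x (ZMod 2) r 1 = sem pos (ZMod 2) (wordM [r]) := by
        rw [sem_wordM [r] (by simpa using hr)]
        simp [wordX]
      unfold dec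
      rw [ap_two_pow _ hk, ← h2, xc_two_pow, (h3 k hk).1, h4, sem_col _ (h3 k hk).2]
  · rw [ChevalleyStructure.TwF4.Rel.x_ge r hr, Matrix.one_mulVec, rows_ge (not_lt.1 hr), ap_unR, Nat.mod_eq_of_lt hc]

/-- the matrix of an element -/
def mat (g : LL) : Matrix chevF4.Idx chevF4.Idx (ZMod 2) := ((g : GL chevF4.Idx (ZMod 2)) : Matrix _ _ _)

theorem wd_dec : ∀ (w : List ℕ) (c : ℕ), mat (wd w) *ᵥ dec (c % 2 ^ 26) = dec (apW w c)
  | [], c => by
    show (1 : Matrix chevF4.Idx chevF4.Idx (ZMod 2)) *ᵥ _ = _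
    rw [Matrix.one_mulVec, apW]
  | r :: w, c => by
    have e : mat (wd (r :: w)) = chevF4.x (ZMod 2) r 1 * mat (wd w) := by
      rw [wd_cons]
      rfl
    rw [e, ← Matrix.mulVec_mulVec, wd_dec w, x_dec r (apW_lt w c), apW]

theorem wd_rev : ∀ w : List ℕ, wd w.reverse = (wd w)⁻¹
  | [] => by simp
  | r :: w => by rw [List.reverse_cons, wd_append, wd_rev w, wd_one, wd_cons, _root_.mul_inv_rev, x_inv]

theorem exists_wd (g : LL) : ∃ w : List ℕ, g = wd w := by
  have hg : g ∈ Subgroup.closure {g : LL | ∃ r < 48, g = x r} := closure_x ▸ Subgroup.mem_top g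
  induction hg using Subgroup.closure_induction with
  | mem g hg =>
    obtain ⟨r, -, rfl⟩ := hg
    exact ⟨[r], (wd_one r).symm⟩
  | one => exact ⟨[], rfl⟩
  | mul a b _ _ ha hb =>
    obtain ⟨w, rfl⟩ := ha
    obtain ⟨w', rfl⟩ := hb
    exact ⟨w ++ w', (wd_append w w').symm⟩
  | inv a _ ha =>
    obtain ⟨w, rfl⟩ := ha
    exact ⟨w.reverse, (wd_rev w).symm⟩

/-- **the action** -/
noncomputable def L (g : LL) (c : ℕ) : ℕ := apW (exists_wd g).choose c

theorem L_wd (w : List ℕ) (c : ℕ) : L (wd w) c = apW w c := by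
  refine dec_inj (apW_lt _ _) (apW_lt _ _) ?_
  rw [← wd_dec w, L, ← wd_dec, ← (exists_wd (wd w)).choose_spec]

theorem L_lt (g : LL) (c : ℕ) : L g c < 2 ^ 26 := apW_lt _ _

theorem L_xor (g : LL) (a b : ℕ) : L g (a ^^^ b) = L g a ^^^ L g b := apW_xor _ _ _

theorem L_mod (g : LL) (c : ℕ) : L g (c % 2 ^ 26) = L g c := apW_mod _ _

theorem L_zero (g : LL) : L g 0 = 0 := by
  have := L_xor g 0 0
  rwa [Nat.xor_self, Nat.xor_self] at this

theorem L_mul (g h : LL) (c : ℕ) : L (g * h) c = L g (L h c) := by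
  obtain ⟨w, rfl⟩ := exists_wd g
  obtain ⟨w', rfl⟩ := exists_wd h
  rw [← wd_append, L_wd, L_wd, L_wd, apW_append]

theorem L_one {c : ℕ} (hc : c < 2 ^ 26) : L 1 c = c := (L_wd [] c).trans (Nat.mod_eq_of_lt hc)

theorem L_inv (g : LL) {c : ℕ} (hc : c < 2 ^ 26) : L g⁻¹ (L g c) = c := by
  rw [← L_mul, inv_mul_cancel, L_one hc]

theorem L_inv' (g : LL) {c : ℕ} (hc : c < 2 ^ 26) : L g (L g⁻¹ c) = c := by
  rw [← L_mul, mul_inv_cancel, L_one hc]

theorem L_inj (g : LL) {a b : ℕ} (ha : a < 2 ^ 26) (hb : b < 2 ^ 26) (h : L g a = L g b) : a = b := by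
  rw [← L_inv g ha, h, L_inv g hb]

theorem L_eq_zero (g : LL) {c : ℕ} (hc : c < 2 ^ 26) : L g c = 0 ↔ c = 0 :=
  ⟨fun h => L_inj g hc (by norm_num) (h.trans (L_zero g).symm), fun h => h ▸ L_zero g⟩

theorem pres_L (g : LL) : Pres (L g) := pres_apW _

theorem simple_LL : IsSimpleGroup LL := (Cfsg.Agent.S1054.result (F := ZMod 2) chevF4 (by simp)).1

/-- **the action is faithful** -/
theorem eq_one {g : LL} (h : ∀ k < 26, L g (2 ^ k) = 2 ^ k) : g = 1 := by
  have hg : ∀ c < 2 ^ 26, L g c = c := add_ext (f := L g) (g := fun c => c) (L_xor g) (fun _ _ => rfl) h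
  let K : Subgroup LL :=
    { carrier := {g | ∀ c < 2 ^ 26, L g c = c}
      mul_mem' := fun {a b} ha hb c hc => by rw [L_mul, hb c hc, ha c hc]
      one_mem' := fun c hc => L_one hc
      inv_mem' := fun {a} ha c hc => by
        conv_lhs => rw [← ha c hc]
        exact L_inv a hc }
  have hK : K.Normal := ⟨fun a ha b c hc => by
    rw [L_mul, L_mul, ha _ (L_lt _ _), L_inv' b hc]⟩
  have := simple_LL
  rcases hK.eq_bot_or_eq_top with h1 | h1
  · exact Subgroup.mem_bot.1 (h1 ▸ (hg : g ∈ K))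
  · exfalso
    have h2 : wd [0] ∈ K := h1 ▸ Subgroup.mem_top _
    have h3 : ¬ ∀ k < 26, apW [0] (2 ^ k) = 2 ^ k := by decide +kernel
    exact h3 fun k hk => (L_wd _ _).symm.trans (h2 _ (Nat.pow_lt_pow_right (by norm_num) hk))

end Cfsg.Agent.TAB.F42.G
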