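import Cfsg.Agent.TAB.F42.G.Lane

/-!
# The tables of the module of dimension 26 of `F₄(2)` (helper47, TAB)

`rowsT` : the root elements; `Tq`, `tQ` : the square map and the quadratic form; `Tm`, `tB` : their polarizations;
`shF`, `crF` : the explicit versions on the planes.
-/

set_option autoImplicit false
set_option maxRecDepth 100000

namespace Cfsg.Agent.TAB.F42.G

/-- the rows of the root elements -/
def rowsT : List (List ℕ) :=
  [[4194305, 262146, 65540, 32776, 16, 16416, 64, 128, 256, 8704, 1024, 2048, 4096, 8192, 16384, 32768, 65536, 131072, 262144, 524288, 1048576, 2097152, 4194304, 8388608, 16777216, 33554432],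
   [8388609, 524290, 131076, 8, 32784, 32, 16448, 128, 256, 512, 9216, 2048, 4096, 8192, 16384, 32768, 65536, 131072, 262144, 524288, 1048576, 2097152, 4194304, 8388608, 16777216, 33554432],
   [16777217, 1048578, 4, 131080, 65552, 32, 64, 16512, 256, 512, 1024, 10240, 4096, 8192, 16384, 32768, 65536, 131072, 262144, 524288, 1048576, 2097152, 4194304, 8388608, 16777216, 33554432],
   [12289, 2097154, 1048580, 524296, 262160, 131104, 65600, 32896, 16640, 512, 1024, 2048, 4096, 8192, 16384, 32768, 65536, 131072, 262144, 524288, 1048576, 2097152, 4194304, 8388608, 16777216, 33562624],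
   [2049, 2, 2097156, 8, 16, 524320, 262208, 128, 33024, 512, 1024, 2048, 4096, 8192, 16384, 32768, 65536, 131072, 262144, 524288, 1048576, 2097152, 4194304, 8388608, 16785408, 33554432],
   [1025, 2, 4, 2097160, 16, 1048608, 64, 262272, 65792, 512, 1024, 2048, 4096, 8192, 16384, 32768, 65536, 131072, 262144, 524288, 1048576, 2097152, 4194304, 8396800, 16777216, 33554432],
   [513, 2, 4, 8, 2097168, 32, 1048640, 524416, 131328, 512, 1024, 2048, 4096, 8192, 16384, 32768, 65536, 131072, 262144, 524288, 1048576, 2097152, 4202496, 8388608, 16777216, 33554432],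
   [257, 33574914, 16777220, 8388616, 4194320, 32, 64, 128, 256, 131584, 66560, 34816, 20480, 8192, 16384, 32768, 65536, 131072, 262144, 524288, 1048576, 2105344, 4194304, 8388608, 16777216, 33570816],
   [129, 2050, 33587204, 8, 16, 8388640, 4194368, 128, 256, 524800, 263168, 2048, 36864, 8192, 16384, 32768, 65536, 131072, 262144, 524288, 1056768, 2097152, 4194304, 8388608, 16793600, 33554432],
   [65, 1026, 4, 33619976, 16, 16777248, 64, 4194432, 256, 1049088, 1024, 264192, 69632, 8192, 16384, 32768, 65536, 131072, 262144, 532480, 1048576, 2097152, 4194304, 8404992, 16777216, 33554432],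
   [33, 514, 4, 8, 33685520, 32, 16777280, 8388736, 256, 512, 1049600, 526336, 135168, 8192, 16384, 32768, 65536, 131072, 270336, 524288, 1048576, 2097152, 4210688, 8388608, 16777216, 33554432],
   [17, 2, 1028, 2056, 16, 33820704, 64, 128, 4194560, 2097664, 1024, 2048, 266240, 8192, 16384, 32768, 65536, 139264, 262144, 524288, 1048576, 2097152, 4194304, 8421376, 16842752, 33816576],
   [9, 2, 516, 8, 2064, 32, 34082880, 128, 8388864, 512, 2098176, 2048, 528384, 8192, 16384, 32768, 73728, 131072, 262144, 524288, 1048576, 2097152, 4227072, 8388608, 16908288, 34078720],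
   [5, 2, 4, 520, 1040, 32, 64, 34607232, 16777472, 512, 1024, 2099200, 1052672, 8192, 16384, 40960, 65536, 131072, 262144, 524288, 1048576, 2097152, 4259840, 8519680, 16777216, 34603008],
   [3, 2, 4, 8, 16, 544, 1088, 2176, 35651840, 512, 1024, 2048, 2101248, 8192, 24576, 32768, 65536, 131072, 262144, 524288, 1048576, 2097152, 4456448, 8912896, 17825792, 33554432],
   [1, 130, 260, 8, 16, 32, 64, 128, 256, 8389120, 4195328, 2048, 4096, 8192, 16384, 32768, 65536, 131072, 262144, 524288, 1064960, 2129920, 4194304, 8388608, 16777216, 33554432],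
   [1, 66, 4, 264, 16, 32, 64, 128, 256, 16777728, 1024, 4196352, 4096, 8192, 16384, 32768, 65536, 131072, 262144, 540672, 1048576, 2162688, 4194304, 8388608, 16777216, 33554432],
   [1, 34, 4, 8, 272, 32, 64, 128, 256, 512, 16778240, 8390656, 4096, 8192, 16384, 32768, 65536, 131072, 278528, 524288, 1048576, 2228224, 4194304, 8388608, 16777216, 33554432],
   [1, 18, 68, 136, 16, 288, 64, 128, 256, 4198912, 1024, 2048, 4096, 8192, 16384, 32768, 65536, 147456, 262144, 557056, 1114112, 2359296, 4194304, 8388608, 16777216, 37748736],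
   [1, 10, 36, 8, 144, 32, 320, 128, 256, 512, 8393728, 2048, 4096, 8192, 16384, 32768, 81920, 131072, 294912, 524288, 1179648, 2621440, 4194304, 8388608, 16777216, 41943040],
   [1, 6, 4, 40, 80, 32, 64, 384, 256, 512, 1024, 16783360, 4096, 8192, 16384, 49152, 65536, 131072, 327680, 655360, 1048576, 3145728, 4194304, 8388608, 16777216, 50331648],
   [1, 2, 20, 8, 16, 160, 64, 128, 256, 2560, 1024, 2048, 4096, 8192, 16384, 32768, 65536, 163840, 262144, 524288, 1310720, 2097152, 4194304, 8388608, 20971520, 33554432],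
   [1, 2, 12, 8, 16, 32, 192, 128, 256, 512, 3072, 2048, 4096, 8192, 16384, 32768, 98304, 131072, 262144, 524288, 1572864, 2097152, 4194304, 8388608, 25165824, 33554432],
   [1, 2, 4, 24, 16, 96, 64, 128, 256, 1536, 1024, 2048, 4096, 8192, 16384, 32768, 65536, 196608, 262144, 786432, 1048576, 2097152, 4194304, 12582912, 16777216, 33554432],
   [1, 2, 4, 8, 24, 32, 96, 128, 256, 512, 1536, 2048, 4096, 8192, 16384, 32768, 196608, 131072, 786432, 524288, 1048576, 2097152, 12582912, 8388608, 16777216, 33554432],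
   [1, 2, 4, 12, 16, 32, 64, 192, 256, 512, 1024, 3072, 4096, 8192, 16384, 98304, 65536, 131072, 262144, 1572864, 1048576, 2097152, 4194304, 25165824, 16777216, 33554432],
   [1, 2, 4, 8, 20, 32, 64, 160, 256, 512, 1024, 2560, 4096, 8192, 16384, 163840, 65536, 131072, 1310720, 524288, 1048576, 2097152, 20971520, 8388608, 16777216, 33554432],
   [1, 2, 6, 8, 16, 40, 80, 128, 384, 512, 1024, 2048, 4096, 8192, 49152, 32768, 327680, 655360, 262144, 524288, 3145728, 2097152, 4194304, 8388608, 16783360, 33556480],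
   [1, 2, 4, 10, 16, 36, 64, 144, 320, 512, 1024, 2048, 4096, 8192, 81920, 294912, 65536, 1179648, 262144, 2621440, 1048576, 2097152, 4194304, 8393728, 16777216, 33555456],
   [1, 2, 4, 8, 18, 32, 68, 136, 288, 512, 1024, 2048, 4096, 8192, 147456, 557056, 1114112, 131072, 2359296, 524288, 1048576, 2097152, 4198912, 8388608, 16777216, 33554944],
   [1, 2, 4, 8, 16, 34, 64, 128, 272, 512, 1024, 2048, 4096, 8192, 278528, 32768, 65536, 2228224, 262144, 524288, 1048576, 2097152, 4194304, 8390656, 16778240, 33554432],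
   [1, 2, 4, 8, 16, 32, 66, 128, 264, 512, 1024, 2048, 4096, 8192, 540672, 32768, 2162688, 131072, 262144, 524288, 1048576, 2097152, 4196352, 8388608, 16777728, 33554432],
   [1, 2, 4, 8, 16, 32, 64, 130, 260, 512, 1024, 2048, 4096, 8192, 1064960, 2129920, 65536, 131072, 262144, 524288, 1048576, 2097152, 4195328, 8389120, 16777216, 33554432],
   [1, 3, 4, 8, 16, 32, 64, 128, 256, 544, 1088, 2176, 4352, 24576, 16384, 32768, 65536, 131072, 4456448, 8912896, 17825792, 35651840, 4194304, 8388608, 16777216, 33554432],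
   [1, 2, 5, 8, 16, 32, 64, 128, 256, 520, 1040, 2048, 4224, 40960, 16384, 32768, 4259840, 8519680, 262144, 524288, 34607232, 2099200, 4194304, 8388608, 16777472, 33554560],
   [1, 2, 4, 9, 16, 32, 64, 128, 256, 516, 1024, 2064, 4160, 73728, 16384, 4227072, 65536, 16908288, 262144, 34082880, 1048576, 2098176, 4194304, 8388864, 16777216, 33554496],
   [1, 2, 4, 8, 17, 32, 64, 128, 256, 512, 1028, 2056, 4128, 139264, 16384, 8421376, 16842752, 131072, 33820704, 524288, 1048576, 2097664, 4194560, 8388608, 16777216, 33554464],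
   [1, 2, 4, 8, 16, 33, 64, 128, 256, 514, 1024, 2048, 4112, 270336, 4210688, 32768, 65536, 33685520, 262144, 526336, 1049600, 2097152, 4194304, 8388736, 16777280, 33554432],
   [1, 2, 4, 8, 16, 32, 65, 128, 256, 512, 1026, 2048, 4104, 532480, 8404992, 32768, 33619976, 131072, 264192, 524288, 1049088, 2097152, 4194432, 8388608, 16777248, 33554432],
   [1, 2, 4, 8, 16, 32, 64, 129, 256, 512, 1024, 2050, 4100, 1056768, 16793600, 33587204, 65536, 131072, 263168, 524800, 1048576, 2097152, 4194368, 8388640, 16777216, 33554432],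
   [1, 2, 4, 8, 16, 32, 64, 128, 257, 512, 1024, 2048, 4098, 2105344, 33574914, 34816, 66560, 131584, 262144, 524288, 1048576, 2097152, 4194320, 8388616, 16777220, 33554434],
   [1, 2, 4, 8, 16, 32, 64, 128, 256, 513, 1024, 2048, 4096, 4202496, 16384, 32768, 65536, 131328, 262144, 524416, 1048640, 2097168, 4194304, 8388608, 16777216, 33554432],
   [1, 2, 4, 8, 16, 32, 64, 128, 256, 512, 1025, 2048, 4096, 8396800, 16384, 32768, 65792, 131072, 262272, 524288, 1048608, 2097160, 4194304, 8388608, 16777216, 33554432],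
   [1, 2, 4, 8, 16, 32, 64, 128, 256, 512, 1024, 2049, 4096, 16785408, 16384, 33024, 65536, 131072, 262208, 524320, 1048576, 2097156, 4194304, 8388608, 16777216, 33554432],
   [1, 2, 4, 8, 16, 32, 64, 128, 256, 512, 1024, 2048, 4096, 12289, 16640, 32896, 65600, 131104, 262160, 524296, 1048580, 2097154, 4194304, 8388608, 16777216, 33554433],
   [1, 2, 4, 8, 16, 32, 64, 128, 256, 512, 1024, 2048, 4096, 10240, 16512, 32768, 65552, 131080, 262144, 524288, 1048578, 2097152, 4194304, 8388608, 16777217, 33554432],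
   [1, 2, 4, 8, 16, 32, 64, 128, 256, 512, 1024, 2048, 4096, 9216, 16448, 32784, 65536, 131076, 262144, 524290, 1048576, 2097152, 4194304, 8388609, 16777216, 33554432],
   [1, 2, 4, 8, 16, 32, 64, 128, 256, 512, 1024, 2048, 4096, 8704, 16416, 32776, 65540, 131072, 262146, 524288, 1048576, 2097152, 4194305, 8388608, 16777216, 33554432]]

/-- the rows of a root element -/
def rows (r : ℕ) : List ℕ := rowsT.getD r unR

/-- the positions of the basis in the adjoint module -/
def posI : List ℕ := [7, 11, 12, 13, 14, 15, 16, 17, 18, 22, 23, 24, 0, 48, 44, 43, 42, 41, 40, 39, 38, 37, 33, 32, 31, 1]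

/-- the basis in the adjoint module -/
def emb : List ℕ := [128, 2048, 4096, 8192, 16384, 32768, 65536, 131072, 262144, 4194304, 8388608, 16777216, 1, 281474976710656, 17592186044416, 8796093022208, 4398046511104, 2199023255552, 1099511627776, 549755813888, 274877906944, 137438953472, 8589934592, 4294967296, 2147483648, 2]

/-- the projection -/
def prj : List ℕ := [4096, 33554432, 0, 0, 0, 0, 0, 1, 0, 0, 0, 2, 4, 8, 16, 32, 64, 128, 256, 0, 0, 0, 512, 1024, 2048, 0, 0, 0, 0, 0, 0, 16777216, 8388608, 4194304, 0, 0, 0, 2097152, 1048576, 524288, 262144, 131072, 65536, 32768, 16384, 0, 0, 0, 8192, 0, 0, 0]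

/-- the square map -/
def Tq : List (List (ℕ × ℕ)) :=
  [[(5, 4), (6, 3), (7, 2), (8, 1), (12, 0)],
   [(9, 4), (10, 3), (11, 2), (12, 1), (21, 0), (25, 1)],
   [(9, 6), (10, 5), (20, 0), (24, 1), (25, 2)],
   [(9, 7), (11, 5), (19, 0), (23, 1), (25, 3)],
   [(10, 7), (11, 6), (18, 0), (22, 1), (25, 4)],
   [(9, 8), (12, 5), (17, 0), (23, 2), (24, 3), (25, 5)],
   [(10, 8), (12, 6), (16, 0), (22, 2), (24, 4), (25, 6)],
   [(11, 8), (12, 7), (15, 0), (22, 3), (23, 4), (25, 7)],
   [(14, 0), (22, 5), (23, 6), (24, 7), (25, 8)],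
   [(12, 9), (17, 1), (19, 2), (20, 3), (21, 5)],
   [(12, 10), (16, 1), (18, 2), (20, 4), (21, 6)],
   [(12, 11), (15, 1), (18, 3), (19, 4), (21, 7)],
   [(12, 12), (14, 1), (15, 2), (16, 3), (17, 4), (18, 5), (19, 6), (20, 7), (21, 8)],
   [(13, 12), (18, 17), (19, 16), (20, 15), (21, 14)],
   [(13, 8), (14, 12), (22, 17), (23, 16), (24, 15), (25, 14)],
   [(13, 7), (14, 11), (22, 19), (23, 18), (25, 15)],
   [(13, 6), (14, 10), (22, 20), (24, 18), (25, 16)],
   [(13, 5), (14, 9), (23, 20), (24, 19), (25, 17)],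
   [(13, 4), (15, 10), (16, 11), (18, 12), (22, 21), (25, 18)],
   [(13, 3), (15, 9), (17, 11), (19, 12), (23, 21), (25, 19)],
   [(13, 2), (16, 9), (17, 10), (20, 12), (24, 21), (25, 20)],
   [(13, 1), (18, 9), (19, 10), (20, 11), (25, 21)],
   [(14, 4), (15, 6), (16, 7), (18, 8), (22, 12)],
   [(14, 3), (15, 5), (17, 7), (19, 8), (23, 12)],
   [(14, 2), (16, 5), (17, 6), (20, 8), (24, 12)],
   [(25, 25), (13, 0), (14, 1), (18, 5), (19, 6), (20, 7), (22, 9), (23, 10), (24, 11)]]

/-- the product -/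
def Tm : List (List (ℕ × ℕ)) :=
  [[(0, 12), (1, 8), (2, 7), (3, 6), (4, 5), (5, 4), (6, 3), (7, 2), (8, 1), (12, 0)],
   [(0, 21), (1, 12), (1, 25), (2, 11), (3, 10), (4, 9), (9, 4), (10, 3), (11, 2), (12, 1), (21, 0), (25, 1)],
   [(0, 20), (1, 24), (2, 25), (5, 10), (6, 9), (9, 6), (10, 5), (20, 0), (24, 1), (25, 2)],
   [(0, 19), (1, 23), (3, 25), (5, 11), (7, 9), (9, 7), (11, 5), (19, 0), (23, 1), (25, 3)],
   [(0, 18), (1, 22), (4, 25), (6, 11), (7, 10), (10, 7), (11, 6), (18, 0), (22, 1), (25, 4)],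
   [(0, 17), (2, 23), (3, 24), (5, 12), (5, 25), (8, 9), (9, 8), (12, 5), (17, 0), (23, 2), (24, 3), (25, 5)],
   [(0, 16), (2, 22), (4, 24), (6, 12), (6, 25), (8, 10), (10, 8), (12, 6), (16, 0), (22, 2), (24, 4), (25, 6)],
   [(0, 15), (3, 22), (4, 23), (7, 12), (7, 25), (8, 11), (11, 8), (12, 7), (15, 0), (22, 3), (23, 4), (25, 7)],
   [(0, 14), (5, 22), (6, 23), (7, 24), (8, 25), (14, 0), (22, 5), (23, 6), (24, 7), (25, 8)],
   [(1, 17), (2, 19), (3, 20), (5, 21), (9, 12), (12, 9), (17, 1), (19, 2), (20, 3), (21, 5)],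
   [(1, 16), (2, 18), (4, 20), (6, 21), (10, 12), (12, 10), (16, 1), (18, 2), (20, 4), (21, 6)],
   [(1, 15), (3, 18), (4, 19), (7, 21), (11, 12), (12, 11), (15, 1), (18, 3), (19, 4), (21, 7)],
   [(1, 14), (2, 15), (3, 16), (4, 17), (5, 18), (6, 19), (7, 20), (8, 21), (14, 1), (15, 2), (16, 3), (17, 4), (18, 5), (19, 6), (20, 7), (21, 8)],
   [(12, 13), (13, 12), (14, 21), (15, 20), (16, 19), (17, 18), (18, 17), (19, 16), (20, 15), (21, 14)],
   [(8, 13), (12, 14), (13, 8), (14, 12), (14, 25), (15, 24), (16, 23), (17, 22), (22, 17), (23, 16), (24, 15), (25, 14)],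
   [(7, 13), (11, 14), (13, 7), (14, 11), (15, 25), (18, 23), (19, 22), (22, 19), (23, 18), (25, 15)],
   [(6, 13), (10, 14), (13, 6), (14, 10), (16, 25), (18, 24), (20, 22), (22, 20), (24, 18), (25, 16)],
   [(5, 13), (9, 14), (13, 5), (14, 9), (17, 25), (19, 24), (20, 23), (23, 20), (24, 19), (25, 17)],
   [(4, 13), (10, 15), (11, 16), (12, 18), (13, 4), (15, 10), (16, 11), (18, 12), (18, 25), (21, 22), (22, 21), (25, 18)],
   [(3, 13), (9, 15), (11, 17), (12, 19), (13, 3), (15, 9), (17, 11), (19, 12), (19, 25), (21, 23), (23, 21), (25, 19)],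
   [(2, 13), (9, 16), (10, 17), (12, 20), (13, 2), (16, 9), (17, 10), (20, 12), (20, 25), (21, 24), (24, 21), (25, 20)],
   [(1, 13), (9, 18), (10, 19), (11, 20), (13, 1), (18, 9), (19, 10), (20, 11), (21, 25), (25, 21)],
   [(4, 14), (6, 15), (7, 16), (8, 18), (12, 22), (14, 4), (15, 6), (16, 7), (18, 8), (22, 12)],
   [(3, 14), (5, 15), (7, 17), (8, 19), (12, 23), (14, 3), (15, 5), (17, 7), (19, 8), (23, 12)],
   [(2, 14), (5, 16), (6, 17), (8, 20), (12, 24), (14, 2), (16, 5), (17, 6), (20, 8), (24, 12)],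
   [(0, 13), (1, 14), (5, 18), (6, 19), (7, 20), (9, 22), (10, 23), (11, 24), (13, 0), (14, 1), (18, 5), (19, 6), (20, 7), (22, 9), (23, 10), (24, 11)]]

/-- the quadratic form -/
def tQ : List (ℕ × ℕ) := [(0, 13), (1, 14), (2, 15), (3, 16), (4, 17), (5, 18), (6, 19), (7, 20), (8, 21), (9, 22), (10, 23), (11, 24), (12, 25), (12, 12), (25, 25)]

/-- the bilinear form -/
def tB : List (ℕ × ℕ) := [(0, 13), (1, 14), (2, 15), (3, 16), (4, 17), (5, 18), (6, 19), (7, 20), (8, 21), (9, 22), (10, 23), (11, 24), (12, 25), (13, 0), (14, 1), (15, 2), (16, 3), (17, 4), (18, 5), (19, 6), (20, 7), (21, 8), (22, 9), (23, 10), (24, 11), (25, 12)]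

/-- the pairs of unit codes, first entry -/
def PA : List ℕ := [0x3ffffff, 0xffffffc000000, 0x3ffffff0000000000000, 0xffffffc0000000000000000000, 0x3ffffff00000000000000000000000000, 0xffffffc00000000000000000000000000000000, 0x3ffffff000000000000000000000000000000000000000, 0xffffffc000000000000000000000000000000000000000000000, 0x3ffffff0000000000000000000000000000000000000000000000000000, 0xffffffc0000000000000000000000000000000000000000000000000000000000, 0x3ffffff00000000000000000000000000000000000000000000000000000000000000000, 0xffffffc00000000000000000000000000000000000000000000000000000000000000000000000, 0x3ffffff000000000000000000000000000000000000000000000000000000000000000000000000000000, 0xffffffc000000000000000000000000000000000000000000000000000000000000000000000000000000000000, 0x3ffffff0000000000000000000000000000000000000000000000000000000000000000000000000000000000000000000, 0xffffffc0000000000000000000000000000000000000000000000000000000000000000000000000000000000000000000000000,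 0x3ffffff00000000000000000000000000000000000000000000000000000000000000000000000000000000000000000000000000000000, 0xffffffc00000000000000000000000000000000000000000000000000000000000000000000000000000000000000000000000000000000000000, 0x3ffffff000000000000000000000000000000000000000000000000000000000000000000000000000000000000000000000000000000000000000000000, 0xffffffc000000000000000000000000000000000000000000000000000000000000000000000000000000000000000000000000000000000000000000000000000, 0x3ffffff0000000000000000000000000000000000000000000000000000000000000000000000000000000000000000000000000000000000000000000000000000000000, 0xffffffc0000000000000000000000000000000000000000000000000000000000000000000000000000000000000000000000000000000000000000000000000000000000000000, 0x3ffffff00000000000000000000000000000000000000000000000000000000000000000000000000000000000000000000000000000000000000000000000000000000000000000000000, 0xffffffc00000000000000000000000000000000000000000000000000000000000000000000000000000000000000000000000000000000000000000000000000000000000000000000000000000,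 0x3ffffff000000000000000000000000000000000000000000000000000000000000000000000000000000000000000000000000000000000000000000000000000000000000000000000000000000000000, 0xffffffc000000000000000000000000000000000000000000000000000000000000000000000000000000000000000000000000000000000000000000000000000000000000000000000000000000000000000000]

/-- the pairs of unit codes, second entry -/
def PB : List ℕ := [0x4000001000000400000100000040000010000004000001000000400000100000040000010000004000001000000400000100000040000010000004000001000000400000100000040000010000004000001, 0x8000002000000800000200000080000020000008000002000000800000200000080000020000008000002000000800000200000080000020000008000002000000800000200000080000020000008000002, 0x10000004000001000000400000100000040000010000004000001000000400000100000040000010000004000001000000400000100000040000010000004000001000000400000100000040000010000004, 0x20000008000002000000800000200000080000020000008000002000000800000200000080000020000008000002000000800000200000080000020000008000002000000800000200000080000020000008,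 0x40000010000004000001000000400000100000040000010000004000001000000400000100000040000010000004000001000000400000100000040000010000004000001000000400000100000040000010, 0x80000020000008000002000000800000200000080000020000008000002000000800000200000080000020000008000002000000800000200000080000020000008000002000000800000200000080000020, 0x100000040000010000004000001000000400000100000040000010000004000001000000400000100000040000010000004000001000000400000100000040000010000004000001000000400000100000040, 0x200000080000020000008000002000000800000200000080000020000008000002000000800000200000080000020000008000002000000800000200000080000020000008000002000000800000200000080, 0x400000100000040000010000004000001000000400000100000040000010000004000001000000400000100000040000010000004000001000000400000100000040000010000004000001000000400000100, 0x800000200000080000020000008000002000000800000200000080000020000008000002000000800000200000080000020000008000002000000800000200000080000020000008000002000000800000200,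 0x1000000400000100000040000010000004000001000000400000100000040000010000004000001000000400000100000040000010000004000001000000400000100000040000010000004000001000000400, 0x2000000800000200000080000020000008000002000000800000200000080000020000008000002000000800000200000080000020000008000002000000800000200000080000020000008000002000000800, 0x4000001000000400000100000040000010000004000001000000400000100000040000010000004000001000000400000100000040000010000004000001000000400000100000040000010000004000001000, 0x8000002000000800000200000080000020000008000002000000800000200000080000020000008000002000000800000200000080000020000008000002000000800000200000080000020000008000002000, 0x10000004000001000000400000100000040000010000004000001000000400000100000040000010000004000001000000400000100000040000010000004000001000000400000100000040000010000004000, 0x20000008000002000000800000200000080000020000008000002000000800000200000080000020000008000002000000800000200000080000020000008000002000000800000200000080000020000008000,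 0x40000010000004000001000000400000100000040000010000004000001000000400000100000040000010000004000001000000400000100000040000010000004000001000000400000100000040000010000, 0x80000020000008000002000000800000200000080000020000008000002000000800000200000080000020000008000002000000800000200000080000020000008000002000000800000200000080000020000, 0x100000040000010000004000001000000400000100000040000010000004000001000000400000100000040000010000004000001000000400000100000040000010000004000001000000400000100000040000, 0x200000080000020000008000002000000800000200000080000020000008000002000000800000200000080000020000008000002000000800000200000080000020000008000002000000800000200000080000, 0x400000100000040000010000004000001000000400000100000040000010000004000001000000400000100000040000010000004000001000000400000100000040000010000004000001000000400000100000, 0x800000200000080000020000008000002000000800000200000080000020000008000002000000800000200000080000020000008000002000000800000200000080000020000008000002000000800000200000,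 0x1000000400000100000040000010000004000001000000400000100000040000010000004000001000000400000100000040000010000004000001000000400000100000040000010000004000001000000400000, 0x2000000800000200000080000020000008000002000000800000200000080000020000008000002000000800000200000080000020000008000002000000800000200000080000020000008000002000000800000, 0x4000001000000400000100000040000010000004000001000000400000100000040000010000004000001000000400000100000040000010000004000001000000400000100000040000010000004000001000000, 0x8000002000000800000200000080000020000008000002000000800000200000080000020000008000002000000800000200000080000020000008000002000000800000200000080000020000008000002000000]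

/-- the square map on explicit planes -/
def shX {α : Type} (a0 a1 a2 a3 a4 a5 a6 a7 a8 a9 a10 a11 a12 a13 a14 a15 a16 a17 a18 a19 a20 a21 a22 a23 a24 a25 : ℕ) (κ : List ℕ → ℕ → α) : α :=
  κ [Nat.xor (Nat.land a5 a4) (Nat.xor (Nat.land a6 a3) (Nat.xor (Nat.land a7 a2) (Nat.xor (Nat.land a8 a1) (Nat.xor (Nat.land a12 a0) 0)))),
     Nat.xor (Nat.land a9 a4) (Nat.xor (Nat.land a10 a3) (Nat.xor (Nat.land a11 a2) (Nat.xor (Nat.land a12 a1) (Nat.xor (Nat.land a21 a0) (Nat.xor (Nat.land a25 a1) 0))))),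
     Nat.xor (Nat.land a9 a6) (Nat.xor (Nat.land a10 a5) (Nat.xor (Nat.land a20 a0) (Nat.xor (Nat.land a24 a1) (Nat.xor (Nat.land a25 a2) 0)))),
     Nat.xor (Nat.land a9 a7) (Nat.xor (Nat.land a11 a5) (Nat.xor (Nat.land a19 a0) (Nat.xor (Nat.land a23 a1) (Nat.xor (Nat.land a25 a3) 0)))),
     Nat.xor (Nat.land a10 a7) (Nat.xor (Nat.land a11 a6) (Nat.xor (Nat.land a18 a0) (Nat.xor (Nat.land a22 a1) (Nat.xor (Nat.land a25 a4) 0)))),
     Nat.xor (Nat.land a9 a8) (Nat.xor (Nat.land a12 a5) (Nat.xor (Nat.land a17 a0) (Nat.xor (Nat.land a23 a2) (Nat.xor (Nat.land a24 a3) (Nat.xor (Nat.land a25 a5) 0))))),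
     Nat.xor (Nat.land a10 a8) (Nat.xor (Nat.land a12 a6) (Nat.xor (Nat.land a16 a0) (Nat.xor (Nat.land a22 a2) (Nat.xor (Nat.land a24 a4) (Nat.xor (Nat.land a25 a6) 0))))),
     Nat.xor (Nat.land a11 a8) (Nat.xor (Nat.land a12 a7) (Nat.xor (Nat.land a15 a0) (Nat.xor (Nat.land a22 a3) (Nat.xor (Nat.land a23 a4) (Nat.xor (Nat.land a25 a7) 0))))),
     Nat.xor (Nat.land a14 a0) (Nat.xor (Nat.land a22 a5) (Nat.xor (Nat.land a23 a6) (Nat.xor (Nat.land a24 a7) (Nat.xor (Nat.land a25 a8) 0)))),
     Nat.xor (Nat.land a12 a9) (Nat.xor (Nat.land a17 a1) (Nat.xor (Nat.land a19 a2) (Nat.xor (Nat.land a20 a3) (Nat.xor (Nat.land a21 a5) 0)))),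
     Nat.xor (Nat.land a12 a10) (Nat.xor (Nat.land a16 a1) (Nat.xor (Nat.land a18 a2) (Nat.xor (Nat.land a20 a4) (Nat.xor (Nat.land a21 a6) 0)))),
     Nat.xor (Nat.land a12 a11) (Nat.xor (Nat.land a15 a1) (Nat.xor (Nat.land a18 a3) (Nat.xor (Nat.land a19 a4) (Nat.xor (Nat.land a21 a7) 0)))),
     Nat.xor (Nat.land a12 a12) (Nat.xor (Nat.land a14 a1) (Nat.xor (Nat.land a15 a2) (Nat.xor (Nat.land a16 a3) (Nat.xor (Nat.land a17 a4) (Nat.xor (Nat.land a18 a5) (Nat.xor (Nat.land a19 a6) (Nat.xor (Nat.land a20 a7) (Nat.xor (Nat.land a21 a8) 0)))))))),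
     Nat.xor (Nat.land a13 a12) (Nat.xor (Nat.land a18 a17) (Nat.xor (Nat.land a19 a16) (Nat.xor (Nat.land a20 a15) (Nat.xor (Nat.land a21 a14) 0)))),
     Nat.xor (Nat.land a13 a8) (Nat.xor (Nat.land a14 a12) (Nat.xor (Nat.land a22 a17) (Nat.xor (Nat.land a23 a16) (Nat.xor (Nat.land a24 a15) (Nat.xor (Nat.land a25 a14) 0))))),
     Nat.xor (Nat.land a13 a7) (Nat.xor (Nat.land a14 a11) (Nat.xor (Nat.land a22 a19) (Nat.xor (Nat.land a23 a18) (Nat.xor (Nat.land a25 a15) 0)))),
     Nat.xor (Nat.land a13 a6) (Nat.xor (Nat.land a14 a10) (Nat.xor (Nat.land a22 a20) (Nat.xor (Nat.land a24 a18) (Nat.xor (Nat.land a25 a16) 0)))),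
     Nat.xor (Nat.land a13 a5) (Nat.xor (Nat.land a14 a9) (Nat.xor (Nat.land a23 a20) (Nat.xor (Nat.land a24 a19) (Nat.xor (Nat.land a25 a17) 0)))),
     Nat.xor (Nat.land a13 a4) (Nat.xor (Nat.land a15 a10) (Nat.xor (Nat.land a16 a11) (Nat.xor (Nat.land a18 a12) (Nat.xor (Nat.land a22 a21) (Nat.xor (Nat.land a25 a18) 0))))),
     Nat.xor (Nat.land a13 a3) (Nat.xor (Nat.land a15 a9) (Nat.xor (Nat.land a17 a11) (Nat.xor (Nat.land a19 a12) (Nat.xor (Nat.land a23 a21) (Nat.xor (Nat.land a25 a19) 0))))),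
     Nat.xor (Nat.land a13 a2) (Nat.xor (Nat.land a16 a9) (Nat.xor (Nat.land a17 a10) (Nat.xor (Nat.land a20 a12) (Nat.xor (Nat.land a24 a21) (Nat.xor (Nat.land a25 a20) 0))))),
     Nat.xor (Nat.land a13 a1) (Nat.xor (Nat.land a18 a9) (Nat.xor (Nat.land a19 a10) (Nat.xor (Nat.land a20 a11) (Nat.xor (Nat.land a25 a21) 0)))),
     Nat.xor (Nat.land a14 a4) (Nat.xor (Nat.land a15 a6) (Nat.xor (Nat.land a16 a7) (Nat.xor (Nat.land a18 a8) (Nat.xor (Nat.land a22 a12) 0)))),
     Nat.xor (Nat.land a14 a3) (Nat.xor (Nat.land a15 a5) (Nat.xor (Nat.land a17 a7) (Nat.xor (Nat.land a19 a8) (Nat.xor (Nat.land a23 a12) 0)))),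
     Nat.xor (Nat.land a14 a2) (Nat.xor (Nat.land a16 a5) (Nat.xor (Nat.land a17 a6) (Nat.xor (Nat.land a20 a8) (Nat.xor (Nat.land a24 a12) 0)))),
     Nat.xor (Nat.land a25 a25) (Nat.xor (Nat.land a13 a0) (Nat.xor (Nat.land a14 a1) (Nat.xor (Nat.land a18 a5) (Nat.xor (Nat.land a19 a6) (Nat.xor (Nat.land a20 a7) (Nat.xor (Nat.land a22 a9) (Nat.xor (Nat.land a23 a10) (Nat.xor (Nat.land a24 a11) 0))))))))]
    (Nat.xor (Nat.land a0 a13) (Nat.xor (Nat.land a1 a14) (Nat.xor (Nat.land a2 a15) (Nat.xor (Nat.land a3 a16) (Nat.xor (Nat.land a4 a17) (Nat.xor (Nat.land a5 a18) (Nat.xor (Nat.land a6 a19) (Nat.xor (Nat.land a7 a20) (Nat.xor (Nat.land a8 a21) (Nat.xor (Nat.land a9 a22) (Nat.xor (Nat.land a10 a23) (Nat.xor (Nat.land a11 a24) (Nat.xor (Nat.land a12 a25) (Nat.xor (Nat.land a12 a12) (Nat.xor (Nat.land a25 a25) 0)))))))))))))))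

/-- the product on explicit planes -/
def crX {α : Type} (a0 a1 a2 a3 a4 a5 a6 a7 a8 a9 a10 a11 a12 a13 a14 a15 a16 a17 a18 a19 a20 a21 a22 a23 a24 a25 b0 b1 b2 b3 b4 b5 b6 b7 b8 b9 b10 b11 b12 b13 b14 b15 b16 b17 b18 b19 b20 b21 b22 b23 b24 b25 : ℕ) (κ : List ℕ → ℕ → α) : α :=
  κ [Nat.xor (Nat.land a0 b12) (Nat.xor (Nat.land a1 b8) (Nat.xor (Nat.land a2 b7) (Nat.xor (Nat.land a3 b6) (Nat.xor (Nat.land a4 b5) (Nat.xor (Nat.land a5 b4) (Nat.xor (Nat.land a6 b3) (Nat.xor (Nat.land a7 b2) (Nat.xor (Nat.land a8 b1) (Nat.xor (Nat.land a12 b0) 0))))))))),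
     Nat.xor (Nat.land a0 b21) (Nat.xor (Nat.land a1 b12) (Nat.xor (Nat.land a1 b25) (Nat.xor (Nat.land a2 b11) (Nat.xor (Nat.land a3 b10) (Nat.xor (Nat.land a4 b9) (Nat.xor (Nat.land a9 b4) (Nat.xor (Nat.land a10 b3) (Nat.xor (Nat.land a11 b2) (Nat.xor (Nat.land a12 b1) (Nat.xor (Nat.land a21 b0) (Nat.xor (Nat.land a25 b1) 0))))))))))),
     Nat.xor (Nat.land a0 b20) (Nat.xor (Nat.land a1 b24) (Nat.xor (Nat.land a2 b25) (Nat.xor (Nat.land a5 b10) (Nat.xor (Nat.land a6 b9) (Nat.xor (Nat.land a9 b6) (Nat.xor (Nat.land a10 b5) (Nat.xor (Nat.land a20 b0) (Nat.xor (Nat.land a24 b1) (Nat.xor (Nat.land a25 b2) 0))))))))),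
     Nat.xor (Nat.land a0 b19) (Nat.xor (Nat.land a1 b23) (Nat.xor (Nat.land a3 b25) (Nat.xor (Nat.land a5 b11) (Nat.xor (Nat.land a7 b9) (Nat.xor (Nat.land a9 b7) (Nat.xor (Nat.land a11 b5) (Nat.xor (Nat.land a19 b0) (Nat.xor (Nat.land a23 b1) (Nat.xor (Nat.land a25 b3) 0))))))))),
     Nat.xor (Nat.land a0 b18) (Nat.xor (Nat.land a1 b22) (Nat.xor (Nat.land a4 b25) (Nat.xor (Nat.land a6 b11) (Nat.xor (Nat.land a7 b10) (Nat.xor (Nat.land a10 b7) (Nat.xor (Nat.land a11 b6) (Nat.xor (Nat.land a18 b0) (Nat.xor (Nat.land a22 b1) (Nat.xor (Nat.land a25 b4) 0))))))))),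
     Nat.xor (Nat.land a0 b17) (Nat.xor (Nat.land a2 b23) (Nat.xor (Nat.land a3 b24) (Nat.xor (Nat.land a5 b12) (Nat.xor (Nat.land a5 b25) (Nat.xor (Nat.land a8 b9) (Nat.xor (Nat.land a9 b8) (Nat.xor (Nat.land a12 b5) (Nat.xor (Nat.land a17 b0) (Nat.xor (Nat.land a23 b2) (Nat.xor (Nat.land a24 b3) (Nat.xor (Nat.land a25 b5) 0))))))))))),
     Nat.xor (Nat.land a0 b16) (Nat.xor (Nat.land a2 b22) (Nat.xor (Nat.land a4 b24) (Nat.xor (Nat.land a6 b12) (Nat.xor (Nat.land a6 b25) (Nat.xor (Nat.land a8 b10) (Nat.xor (Nat.land a10 b8) (Nat.xor (Nat.land a12 b6) (Nat.xor (Nat.land a16 b0) (Nat.xor (Nat.land a22 b2) (Nat.xor (Nat.land a24 b4) (Nat.xor (Nat.land a25 b6) 0))))))))))),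
     Nat.xor (Nat.land a0 b15) (Nat.xor (Nat.land a3 b22) (Nat.xor (Nat.land a4 b23) (Nat.xor (Nat.land a7 b12) (Nat.xor (Nat.land a7 b25) (Nat.xor (Nat.land a8 b11) (Nat.xor (Nat.land a11 b8) (Nat.xor (Nat.land a12 b7) (Nat.xor (Nat.land a15 b0) (Nat.xor (Nat.land a22 b3) (Nat.xor (Nat.land a23 b4) (Nat.xor (Nat.land a25 b7) 0))))))))))),
     Nat.xor (Nat.land a0 b14) (Nat.xor (Nat.land a5 b22) (Nat.xor (Nat.land a6 b23) (Nat.xor (Nat.land a7 b24) (Nat.xor (Nat.land a8 b25) (Nat.xor (Nat.land a14 b0) (Nat.xor (Nat.land a22 b5) (Nat.xor (Nat.land a23 b6) (Nat.xor (Nat.land a24 b7) (Nat.xor (Nat.land a25 b8) 0))))))))),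
     Nat.xor (Nat.land a1 b17) (Nat.xor (Nat.land a2 b19) (Nat.xor (Nat.land a3 b20) (Nat.xor (Nat.land a5 b21) (Nat.xor (Nat.land a9 b12) (Nat.xor (Nat.land a12 b9) (Nat.xor (Nat.land a17 b1) (Nat.xor (Nat.land a19 b2) (Nat.xor (Nat.land a20 b3) (Nat.xor (Nat.land a21 b5) 0))))))))),
     Nat.xor (Nat.land a1 b16) (Nat.xor (Nat.land a2 b18) (Nat.xor (Nat.land a4 b20) (Nat.xor (Nat.land a6 b21) (Nat.xor (Nat.land a10 b12) (Nat.xor (Nat.land a12 b10) (Nat.xor (Nat.land a16 b1) (Nat.xor (Nat.land a18 b2) (Nat.xor (Nat.land a20 b4) (Nat.xor (Nat.land a21 b6) 0))))))))),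
     Nat.xor (Nat.land a1 b15) (Nat.xor (Nat.land a3 b18) (Nat.xor (Nat.land a4 b19) (Nat.xor (Nat.land a7 b21) (Nat.xor (Nat.land a11 b12) (Nat.xor (Nat.land a12 b11) (Nat.xor (Nat.land a15 b1) (Nat.xor (Nat.land a18 b3) (Nat.xor (Nat.land a19 b4) (Nat.xor (Nat.land a21 b7) 0))))))))),
     Nat.xor (Nat.land a1 b14) (Nat.xor (Nat.land a2 b15) (Nat.xor (Nat.land a3 b16) (Nat.xor (Nat.land a4 b17) (Nat.xor (Nat.land a5 b18) (Nat.xor (Nat.land a6 b19) (Nat.xor (Nat.land a7 b20) (Nat.xor (Nat.land a8 b21) (Nat.xor (Nat.land a14 b1) (Nat.xor (Nat.land a15 b2) (Nat.xor (Nat.land a16 b3) (Nat.xor (Nat.land a17 b4) (Nat.xor (Nat.land a18 b5) (Nat.xor (Nat.land a19 b6) (Nat.xor (Nat.land a20 b7) (Nat.xor (Nat.land a21 b8) 0))))))))))))))),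
     Nat.xor (Nat.land a12 b13) (Nat.xor (Nat.land a13 b12) (Nat.xor (Nat.land a14 b21) (Nat.xor (Nat.land a15 b20) (Nat.xor (Nat.land a16 b19) (Nat.xor (Nat.land a17 b18) (Nat.xor (Nat.land a18 b17) (Nat.xor (Nat.land a19 b16) (Nat.xor (Nat.land a20 b15) (Nat.xor (Nat.land a21 b14) 0))))))))),
     Nat.xor (Nat.land a8 b13) (Nat.xor (Nat.land a12 b14) (Nat.xor (Nat.land a13 b8) (Nat.xor (Nat.land a14 b12) (Nat.xor (Nat.land a14 b25) (Nat.xor (Nat.land a15 b24) (Nat.xor (Nat.land a16 b23) (Nat.xor (Nat.land a17 b22) (Nat.xor (Nat.land a22 b17) (Nat.xor (Nat.land a23 b16) (Nat.xor (Nat.land a24 b15) (Nat.xor (Nat.land a25 b14) 0))))))))))),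
     Nat.xor (Nat.land a7 b13) (Nat.xor (Nat.land a11 b14) (Nat.xor (Nat.land a13 b7) (Nat.xor (Nat.land a14 b11) (Nat.xor (Nat.land a15 b25) (Nat.xor (Nat.land a18 b23) (Nat.xor (Nat.land a19 b22) (Nat.xor (Nat.land a22 b19) (Nat.xor (Nat.land a23 b18) (Nat.xor (Nat.land a25 b15) 0))))))))),
     Nat.xor (Nat.land a6 b13) (Nat.xor (Nat.land a10 b14) (Nat.xor (Nat.land a13 b6) (Nat.xor (Nat.land a14 b10) (Nat.xor (Nat.land a16 b25) (Nat.xor (Nat.land a18 b24) (Nat.xor (Nat.land a20 b22) (Nat.xor (Nat.land a22 b20) (Nat.xor (Nat.land a24 b18) (Nat.xor (Nat.land a25 b16) 0))))))))),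
     Nat.xor (Nat.land a5 b13) (Nat.xor (Nat.land a9 b14) (Nat.xor (Nat.land a13 b5) (Nat.xor (Nat.land a14 b9) (Nat.xor (Nat.land a17 b25) (Nat.xor (Nat.land a19 b24) (Nat.xor (Nat.land a20 b23) (Nat.xor (Nat.land a23 b20) (Nat.xor (Nat.land a24 b19) (Nat.xor (Nat.land a25 b17) 0))))))))),
     Nat.xor (Nat.land a4 b13) (Nat.xor (Nat.land a10 b15) (Nat.xor (Nat.land a11 b16) (Nat.xor (Nat.land a12 b18) (Nat.xor (Nat.land a13 b4) (Nat.xor (Nat.land a15 b10) (Nat.xor (Nat.land a16 b11) (Nat.xor (Nat.land a18 b12) (Nat.xor (Nat.land a18 b25) (Nat.xor (Nat.land a21 b22) (Nat.xor (Nat.land a22 b21) (Nat.xor (Nat.land a25 b18) 0))))))))))),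
     Nat.xor (Nat.land a3 b13) (Nat.xor (Nat.land a9 b15) (Nat.xor (Nat.land a11 b17) (Nat.xor (Nat.land a12 b19) (Nat.xor (Nat.land a13 b3) (Nat.xor (Nat.land a15 b9) (Nat.xor (Nat.land a17 b11) (Nat.xor (Nat.land a19 b12) (Nat.xor (Nat.land a19 b25) (Nat.xor (Nat.land a21 b23) (Nat.xor (Nat.land a23 b21) (Nat.xor (Nat.land a25 b19) 0))))))))))),
     Nat.xor (Nat.land a2 b13) (Nat.xor (Nat.land a9 b16) (Nat.xor (Nat.land a10 b17) (Nat.xor (Nat.land a12 b20) (Nat.xor (Nat.land a13 b2) (Nat.xor (Nat.land a16 b9) (Nat.xor (Nat.land a17 b10) (Nat.xor (Nat.land a20 b12) (Nat.xor (Nat.land a20 b25) (Nat.xor (Nat.land a21 b24) (Nat.xor (Nat.land a24 b21) (Nat.xor (Nat.land a25 b20) 0))))))))))),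
     Nat.xor (Nat.land a1 b13) (Nat.xor (Nat.land a9 b18) (Nat.xor (Nat.land a10 b19) (Nat.xor (Nat.land a11 b20) (Nat.xor (Nat.land a13 b1) (Nat.xor (Nat.land a18 b9) (Nat.xor (Nat.land a19 b10) (Nat.xor (Nat.land a20 b11) (Nat.xor (Nat.land a21 b25) (Nat.xor (Nat.land a25 b21) 0))))))))),
     Nat.xor (Nat.land a4 b14) (Nat.xor (Nat.land a6 b15) (Nat.xor (Nat.land a7 b16) (Nat.xor (Nat.land a8 b18) (Nat.xor (Nat.land a12 b22) (Nat.xor (Nat.land a14 b4) (Nat.xor (Nat.land a15 b6) (Nat.xor (Nat.land a16 b7) (Nat.xor (Nat.land a18 b8) (Nat.xor (Nat.land a22 b12) 0))))))))),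
     Nat.xor (Nat.land a3 b14) (Nat.xor (Nat.land a5 b15) (Nat.xor (Nat.land a7 b17) (Nat.xor (Nat.land a8 b19) (Nat.xor (Nat.land a12 b23) (Nat.xor (Nat.land a14 b3) (Nat.xor (Nat.land a15 b5) (Nat.xor (Nat.land a17 b7) (Nat.xor (Nat.land a19 b8) (Nat.xor (Nat.land a23 b12) 0))))))))),
     Nat.xor (Nat.land a2 b14) (Nat.xor (Nat.land a5 b16) (Nat.xor (Nat.land a6 b17) (Nat.xor (Nat.land a8 b20) (Nat.xor (Nat.land a12 b24) (Nat.xor (Nat.land a14 b2) (Nat.xor (Nat.land a16 b5) (Nat.xor (Nat.land a17 b6) (Nat.xor (Nat.land a20 b8) (Nat.xor (Nat.land a24 b12) 0))))))))),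
     Nat.xor (Nat.land a0 b13) (Nat.xor (Nat.land a1 b14) (Nat.xor (Nat.land a5 b18) (Nat.xor (Nat.land a6 b19) (Nat.xor (Nat.land a7 b20) (Nat.xor (Nat.land a9 b22) (Nat.xor (Nat.land a10 b23) (Nat.xor (Nat.land a11 b24) (Nat.xor (Nat.land a13 b0) (Nat.xor (Nat.land a14 b1) (Nat.xor (Nat.land a18 b5) (Nat.xor (Nat.land a19 b6) (Nat.xor (Nat.land a20 b7) (Nat.xor (Nat.land a22 b9) (Nat.xor (Nat.land a23 b10) (Nat.xor (Nat.land a24 b11) 0)))))))))))))))]
    (Nat.xor (Nat.land a0 b13) (Nat.xor (Nat.land a1 b14) (Nat.xor (Nat.land a2 b15) (Nat.xor (Nat.land a3 b16) (Nat.xor (Nat.land a4 b17) (Nat.xor (Nat.land a5 b18) (Nat.xor (Nat.land a6 b19) (Nat.xor (Nat.land a7 b20) (Nat.xor (Nat.land a8 b21) (Nat.xor (Nat.land a9 b22) (Nat.xor (Nat.land a10 b23) (Nat.xor (Nat.land a11 b24) (Nat.xor (Nat.land a12 b25) (Nat.xor (Nat.land a13 b0) (Nat.xor (Nat.land a14 b1) (Nat.xor (Nat.land a15 b2) (Nat.xor (Nat.land a16 b3) (Nat.xor (Nat.land a17 b4) (Nat.xor (Nat.land a18 b5) (Nat.xor (Nat.land a19 b6)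 (Nat.xor (Nat.land a20 b7) (Nat.xor (Nat.land a21 b8) (Nat.xor (Nat.land a22 b9) (Nat.xor (Nat.land a23 b10) (Nat.xor (Nat.land a24 b11) (Nat.xor (Nat.land a25 b12) 0))))))))))))))))))))))))))

/-- the square map and the quadratic form on the planes -/
def shF {α : Type} (P : List ℕ) (κ : List ℕ → ℕ → α) : α :=
  match P with
  | [a0, a1, a2, a3, a4, a5, a6, a7, a8, a9, a10, a11, a12, a13, a14, a15, a16, a17, a18, a19, a20, a21, a22, a23, a24, a25] => shX a0 a1 a2 a3 a4 a5 a6 a7 a8 a9 a10 a11 a12 a13 a14 a15 a16 a17 a18 a19 a20 a21 a22 a23 a24 a25 κ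
  | _ => κ [] 0

/-- the second argument -/
def crG {α : Type} (a0 a1 a2 a3 a4 a5 a6 a7 a8 a9 a10 a11 a12 a13 a14 a15 a16 a17 a18 a19 a20 a21 a22 a23 a24 a25 : ℕ) (Q : List ℕ) (κ : List ℕ → ℕ → α) : α :=
  match Q with
  | [b0, b1, b2, b3, b4, b5, b6, b7, b8, b9, b10, b11, b12, b13, b14, b15, b16, b17, b18, b19, b20, b21, b22, b23, b24, b25] => crX a0 a1 a2 a3 a4 a5 a6 a7 a8 a9 a10 a11 a12 a13 a14 a15 a16 a17 a18 a19 a20 a21 a22 a23 a24 a25 b0 b1 b2 b3 b4 b5 b6 b7 b8 b9 b10 b11 b12 b13 b14 b15 b16 b17 b18 b19 b20 b21 b22 b23 b24 b25 κ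
  | _ => κ [] 0

/-- the product and the bilinear form on the planes -/
def crF {α : Type} (P Q : List ℕ) (κ : List ℕ → ℕ → α) : α :=
  match P with
  | [a0, a1, a2, a3, a4, a5, a6, a7, a8, a9, a10, a11, a12, a13, a14, a15, a16, a17, a18, a19, a20, a21, a22, a23, a24, a25] => crG a0 a1 a2 a3 a4 a5 a6 a7 a8 a9 a10 a11 a12 a13 a14 a15 a16 a17 a18 a19 a20 a21 a22 a23 a24 a25 Q κ
  | _ => κ [] 0

theorem list26 {P : List ℕ} (h : P.length = 26) : ∃ a0 a1 a2 a3 a4 a5 a6 a7 a8 a9 a10 a11 a12 a13 a14 a15 a16 a17 a18 a19 a20 a21 a22 a23 a24 a25 : ℕ, P = [a0, a1, a2, a3, a4, a5, a6, a7, a8, a9, a10, a11, a12, a13, a14, a15, a16, a17, a18, a19, a20, a21, a22, a23, a24, a25] := by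
  iterate 26 (obtain _ | ⟨_, P⟩ := P; · simp at h)
  obtain _ | ⟨_, P⟩ := P
  · exact ⟨_, _, _, _, _, _, _, _, _, _, _, _, _, _, _, _, _, _, _, _, _, _, _, _, _, _, rfl⟩
  · simp at h

theorem shF_eq {α : Type} {P : List ℕ} (h : P.length = 26) (κ : List ℕ → ℕ → α) :
    shF P κ = κ (Tq.map fun l => bp l P P) (bp tQ P P) := by
  obtain ⟨a0, a1, a2, a3, a4, a5, a6, a7, a8, a9, a10, a11, a12, a13, a14, a15, a16, a17, a18, a19, a20, a21, a22, a23, a24, a25, rfl⟩ := list26 h
  rfl

theorem crF_eq {α : Type} {P Q : List ℕ} (h : P.length = 26) (h' : Q.length = 26) (κ : List ℕ → ℕ → α) :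
    crF P Q κ = κ (Tm.map fun l => bp l P Q) (bp tB P Q) := by
  obtain ⟨a0, a1, a2, a3, a4, a5, a6, a7, a8, a9, a10, a11, a12, a13, a14, a15, a16, a17, a18, a19, a20, a21, a22, a23, a24, a25, rfl⟩ := list26 h
  obtain ⟨b0, b1, b2, b3, b4, b5, b6, b7, b8, b9, b10, b11, b12, b13, b14, b15, b16, b17, b18, b19, b20, b21, b22, b23, b24, b25, rfl⟩ := list26 h'
  rfl

end Cfsg.Agent.TAB.F42.G
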